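import Cfsg.Agent.Lib.MetacyclicChains.Pullback
import Cfsg.Agent.Lib.TwoGroups.Recognition

/-!
Homocyclic groups of rank two: saturated systems without a chain with cyclic steps.
-/

set_option autoImplicit false
set_option maxHeartbeats 400000
set_option linter.style.haveILetI false

namespace Cfsg.Agent.Lib.MetacyclicChains

open Cfsg Subgroup SemidirectProduct Cfsg.Agent.Lib.TwoGroups

/-- A closed subgroup inside a cyclic one: conjugates of an element of prime order are powers. -/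
theorem exists_prime_elt {X G : Type*} [Group X] [Finite X] [Group G] {p : ℕ} [hp : Fact p.Prime]
    {ι : X →* G} (hι : Function.Injective ι) (hX : IsPGroup p X) {D : Subgroup X} {x : X}
    (hD : Closed ι D) (hne : ¬ D ≤ ⊥) (hle : D ≤ zpowers x) :
    ∃ a : X, a ^ p = 1 ∧ a ≠ 1 ∧ ∀ b : X, (∃ g : G, ι b = g * ι a * g⁻¹) → ∃ k : ℤ, b = a ^ k := by
  obtain ⟨d, hdD, hd⟩ := SetLike.not_le_iff_exists.1 hne
  rw [Subgroup.mem_bot] at hd
  obtain ⟨k, hk⟩ := IsPGroup.iff_orderOf.1 hX d
  have hk0 : k ≠ 0 := by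
    rintro rfl
    exact hd (orderOf_eq_one_iff.1 hk)
  set a := d ^ (orderOf d / p) with ha
  have hao : orderOf a = p := by
    rw [ha]
    exact orderOf_pow_orderOf_div (orderOf_pos d).ne' (hk ▸ dvd_pow_self p hk0)
  refine ⟨a, hao ▸ pow_orderOf_eq_one a, fun h => hp.out.ne_one (hao ▸ orderOf_eq_one_iff.2 h),
    fun b hb => ?_⟩
  have haD : a ∈ D := pow_mem hdD _
  have hbD := hD a b haD hb
  have hbo : orderOf b = p := by
    obtain ⟨g, hg⟩ := hb
    rw [← orderOf_injective ι hι, hg, ← MulAut.conj_apply, MulEquiv.orderOf_eq,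
      orderOf_injective ι hι, hao]
  have := Recognition.eq_of_card_eq_of_le_zpowers (zpowers_le.2 (hle hbD)) (zpowers_le.2 (hle haD))
    (by rw [Nat.card_zpowers, Nat.card_zpowers, hbo, hao])
  obtain ⟨j, hj⟩ := mem_zpowers_iff.1 (this ▸ mem_zpowers b : b ∈ zpowers a)
  exact ⟨j, hj.symm⟩

/-- The coordinatewise rotations. -/
def rotHom (N : ℕ) : Multiplicative (ZMod N) × Multiplicative (ZMod N) →*
    DihedralGroup N × DihedralGroup N :=
  MonoidHom.mk' (fun v => (.r (Multiplicative.toAdd v.1), .r (Multiplicative.toAdd v.2)))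
    fun v w => by simp [Prod.mk_mul_mk]

theorem rotHom_injective (N : ℕ) : Function.Injective (rotHom N) := by
  intro v w h
  obtain ⟨h1, h2⟩ := Prod.mk.injEq .. ▸ h
  exact Prod.ext (Multiplicative.toAdd.injective (DihedralGroup.r.inj h1))
    (Multiplicative.toAdd.injective (DihedralGroup.r.inj h2))

theorem zsmul_eq_zero_of_ne {N p : ℕ} (hp : p.Prime) {u : ZMod N} (hu : (p : ℤ) • u = 0)
    (hu0 : u ≠ 0) {j : ℤ} (hj : j • u = 0) : (p : ℤ) ∣ j := by
  rw [← addOrderOf_dvd_iff_zsmul_eq_zero] at hj hu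
  rcases (Nat.dvd_prime hp).1 (Int.natCast_dvd_natCast.1 hu) with h | h
  · exact absurd (AddMonoid.addOrderOf_eq_one_iff.1 h) hu0
  · rwa [h] at hj

theorem not_chains_homocyclic_odd {Ω : Type*} [Group Ω] {S : Subgroup Ω} [Finite S] {p : ℕ}
    [hp : Fact p.Prime] (hp2 : p ≠ 2) (hS : IsPGroup p S) {n : ℕ} (hn : 0 < n)
    (e : ↥S ≃* Multiplicative (ZMod (p ^ n)) × Multiplicative (ZMod (p ^ n))) :
    ¬ AllHaveChains S p := by
  classical
  have : NeZero (p ^ n) := ⟨pow_ne_zero _ hp.out.ne_zero⟩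
  let H := DihedralGroup (p ^ n) × DihedralGroup (p ^ n)
  let σ : MulAut H := MulEquiv.prodComm
  let K : Subgroup (MulAut H) := zpowers σ
  have : Finite (MulAut H) := Finite.of_injective (fun φ => (φ : H → H)) DFunLike.coe_injective
  let G := H ⋊[K.subtype] K
  have : Finite G := Finite.of_equiv _ SemidirectProduct.equivProd.symm
  let ι : S →* G := SemidirectProduct.inl.comp ((rotHom (p ^ n)).comp e.toMonoidHom)
  have hι : Function.Injective ι :=
    SemidirectProduct.inl_injective.comp ((rotHom_injective _).comp e.injective)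
  have hK : Nat.card K ∣ 2 := by
    rw [Nat.card_zpowers]
    exact orderOf_dvd_of_pow_eq_one (MulEquiv.ext fun v => rfl)
  have hindex : ¬ p ∣ ι.range.index := by
    have h1 := ι.range.card_mul_index
    have h2 : Nat.card ι.range = p ^ n * p ^ n := by
      rw [← Nat.card_congr (MonoidHom.ofInjective hι).toEquiv, Nat.card_congr e.toEquiv,
        Nat.card_prod, Nat.card_congr Multiplicative.toAdd, Nat.card_zmod]
    rw [h2, SemidirectProduct.card, Nat.card_prod, DihedralGroup.nat_card] at h1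
    have h3 : ι.range.index = 4 * Nat.card K := by
      refine Nat.eq_of_mul_eq_mul_left (Nat.pos_of_ne_zero (mul_ne_zero (NeZero.ne (p ^ n)) (NeZero.ne (p ^ n)))) ?_
      rw [h1]; ring
    have h8 : ι.range.index ∣ 2 ^ 3 := h3 ▸ (by simpa using Nat.mul_dvd_mul_left 4 hK)
    exact fun h => hp2 ((Nat.prime_dvd_prime_iff_eq hp.out Nat.prime_two).1
      (hp.out.dvd_of_dvd_pow (h.trans h8)))
  have htriv : (⊥ : Subgroup S) ≠ ⊤ := by
    intro h
    have h1 : Subsingleton S := subsingleton_of_forall_eq 1 fun z =>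
      Subgroup.mem_bot.1 (h ▸ Subgroup.mem_top z)
    have h2 : Nat.card S = 1 := Nat.card_of_subsingleton (1 : S)
    rw [Nat.card_congr e.toEquiv, Nat.card_prod, Nat.card_congr Multiplicative.toAdd,
      Nat.card_zmod] at h2
    have : 1 < p ^ n := Nat.one_lt_pow hn.ne' hp.out.one_lt
    nlinarith
  refine obstruction ι hι hindex hS ⊥ htriv fun D x hD hne _ hle => ?_
  rw [bot_sup_eq] at hle
  obtain ⟨a, hap, ha1, hconj⟩ := exists_prime_elt hι hS hD hne hle
  set u := Multiplicative.toAdd (e a).1 with hu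
  set v := Multiplicative.toAdd (e a).2 with hv
  have hea : e a = (Multiplicative.ofAdd u, Multiplicative.ofAdd v) := rfl
  have hp0 : (p : ℤ) • u = 0 ∧ (p : ℤ) • v = 0 := by
    have h : e a ^ p = 1 := by rw [← map_pow, hap, map_one]
    rw [hea] at h
    constructor
    · rw [natCast_zsmul]; exact congrArg Multiplicative.toAdd (congrArg Prod.fst h)
    · rw [natCast_zsmul]; exact congrArg Multiplicative.toAdd (congrArg Prod.snd h)
  -- a power of `a` in coordinates
  have hpow : ∀ w : ZMod (p ^ n) × ZMod (p ^ n),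
      (∃ g : G, inl (DihedralGroup.r w.1, DihedralGroup.r w.2) = g * ι a * g⁻¹) →
      ∃ k : ℤ, w = (k • u, k • v) := by
    intro w ⟨g, hg⟩
    obtain ⟨k, hk⟩ := hconj (e.symm (Multiplicative.ofAdd w.1, Multiplicative.ofAdd w.2))
      ⟨g, by
        rw [← hg]
        show inl (rotHom (p ^ n) (e (e.symm _))) = _
        rw [MulEquiv.apply_symm_apply]
        rfl⟩
    refine ⟨k, ?_⟩
    rw [MulEquiv.symm_apply_eq, map_zpow, hea] at hk
    exact Prod.ext (congrArg Multiplicative.toAdd (congrArg Prod.fst hk))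
      (congrArg Multiplicative.toAdd (congrArg Prod.snd hk))
  have hιa : ι a = inl (DihedralGroup.r u, DihedralGroup.r v) := rfl
  obtain ⟨k, hk⟩ := hpow (-u, v) ⟨inl (DihedralGroup.sr 0, 1), by
    rw [hιa, ← map_inv, ← map_mul, ← map_mul]
    refine congrArg inl (Prod.ext ?_ ?_)
    · show DihedralGroup.r (-u) =
        DihedralGroup.sr 0 * DihedralGroup.r u * (DihedralGroup.sr 0)⁻¹
      rw [DihedralGroup.inv_sr, DihedralGroup.sr_mul_r, DihedralGroup.sr_mul_sr]
      simp
    · show DihedralGroup.r v = 1 * DihedralGroup.r v * 1⁻¹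
      rw [inv_one, one_mul, mul_one]⟩
  obtain ⟨l, hl⟩ := hpow (v, u) ⟨inr ⟨σ, mem_zpowers σ⟩, by
    rw [hιa, ← map_inv (inr : K →* G), ← SemidirectProduct.inl_aut]
    rfl⟩
  simp only [Prod.mk.injEq] at hk hl
  obtain ⟨hk1, hk2⟩ := hk
  obtain ⟨hl1, hl2⟩ := hl
  have hzero : u = 0 ∧ v = 0 := by
    by_cases hu0 : u = 0
    · exact ⟨hu0, by rw [hl1, hu0, zsmul_zero]⟩
    by_cases hv0 : v = 0
    · exact ⟨by rw [hl2, hv0, zsmul_zero], hv0⟩
    exfalso
    have h1 : (p : ℤ) ∣ k + 1 := zsmul_eq_zero_of_ne hp.out hp0.1 hu0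
      (by rw [add_zsmul, one_zsmul, ← hk1, neg_add_cancel])
    have h2 : (p : ℤ) ∣ k - 1 := zsmul_eq_zero_of_ne hp.out hp0.2 hv0
      (by rw [sub_zsmul, one_zsmul, ← hk2, add_neg_cancel])
    have h3 : (p : ℤ) ∣ 2 := by
      have := dvd_sub h1 h2
      rwa [show k + 1 - (k - 1) = 2 by ring] at this
    exact hp2 ((Nat.prime_dvd_prime_iff_eq hp.out Nat.prime_two).1 (Int.natCast_dvd_natCast.1 h3))
  apply ha1
  apply e.injective
  rw [hea, map_one, hzero.1, hzero.2]
  rfl

/-- The automorphism of order three of a rank-two homocyclic group. -/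
def triEquiv (N : ℕ) : MulAut (Multiplicative (ZMod N) × Multiplicative (ZMod N)) where
  toFun v := (v.2⁻¹, v.1 * v.2⁻¹)
  invFun v := (v.2 * v.1⁻¹, v.1⁻¹)
  left_inv v := by simp
  right_inv v := by simp
  map_mul' v w := by
    refine Prod.ext ?_ ?_
    · simp only [Prod.fst_mul, Prod.snd_mul, mul_inv]
    · simp only [Prod.fst_mul, Prod.snd_mul, mul_inv]
      ac_rfl

theorem not_chains_homocyclic_two {Ω : Type*} [Group Ω] {S : Subgroup Ω} [Finite S]
    (hS : IsPGroup 2 S) {n : ℕ} (hn : 0 < n)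
    (e : ↥S ≃* Multiplicative (ZMod (2 ^ n)) × Multiplicative (ZMod (2 ^ n))) :
    ¬ AllHaveChains S 2 := by
  classical
  let H := Multiplicative (ZMod (2 ^ n)) × Multiplicative (ZMod (2 ^ n))
  let μ : MulAut H := triEquiv (2 ^ n)
  let K : Subgroup (MulAut H) := zpowers μ
  have : Finite (MulAut H) := Finite.of_injective (fun φ => (φ : H → H)) DFunLike.coe_injective
  let G := H ⋊[K.subtype] K
  have : Finite G := Finite.of_equiv _ SemidirectProduct.equivProd.symm
  let ι : S →* G := SemidirectProduct.inl.comp e.toMonoidHom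
  have hι : Function.Injective ι := SemidirectProduct.inl_injective.comp e.injective
  have hK : Nat.card K ∣ 3 := by
    rw [Nat.card_zpowers]
    refine orderOf_dvd_of_pow_eq_one (MulEquiv.ext fun v => ?_)
    show μ (μ (μ v)) = v
    refine Prod.ext ?_ ?_
    · show (v.2⁻¹ * (v.1 * v.2⁻¹)⁻¹)⁻¹ = v.1
      simp
    · show (v.1 * v.2⁻¹)⁻¹ * (v.2⁻¹ * (v.1 * v.2⁻¹)⁻¹)⁻¹ = v.2
      simp
  have hindex : ¬ 2 ∣ ι.range.index := by
    have h1 := ι.range.card_mul_index
    rw [← Nat.card_congr (MonoidHom.ofInjective hι).toEquiv, Nat.card_congr e.toEquiv,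
      SemidirectProduct.card] at h1
    rw [Nat.eq_of_mul_eq_mul_left Nat.card_pos h1]
    exact fun h => absurd (h.trans hK) (by norm_num)
  have htriv : (⊥ : Subgroup S) ≠ ⊤ := by
    intro h
    have h1 : Subsingleton S := subsingleton_of_forall_eq 1 fun z =>
      Subgroup.mem_bot.1 (h ▸ Subgroup.mem_top z)
    have h2 : Nat.card S = 1 := Nat.card_of_subsingleton (1 : S)
    rw [Nat.card_congr e.toEquiv, Nat.card_prod, Nat.card_congr Multiplicative.toAdd,
      Nat.card_zmod] at h2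
    have : 1 < 2 ^ n := Nat.one_lt_pow hn.ne' one_lt_two
    nlinarith
  refine obstruction ι hι hindex hS ⊥ htriv fun D x hD hne _ hle => ?_
  rw [bot_sup_eq] at hle
  obtain ⟨a, hap, ha1, hconj⟩ := exists_prime_elt hι hS hD hne hle
  obtain ⟨k, hk⟩ := hconj (e.symm (μ (e a))) ⟨inr ⟨μ, mem_zpowers μ⟩, by
    rw [← map_inv (inr : K →* G), show ι a = inl (e a) from rfl, ← SemidirectProduct.inl_aut]
    simp [ι]⟩
  have hinv : a⁻¹ = a := inv_eq_of_mul_eq_one_right (by rw [← pow_two]; exact hap)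
  have hne' : e.symm (μ (e a)) ≠ 1 := by
    simp [ha1]
  have hfix : μ (e a) = e a := by
    rcases Int.even_or_odd k with ⟨j, rfl⟩ | ⟨j, rfl⟩
    · refine absurd (hk.trans ?_) hne'
      rw [← two_mul, _root_.zpow_mul, zpow_two, ← pow_two, hap, one_zpow]
    · rw [zpow_add_one, _root_.zpow_mul, zpow_two, ← pow_two, hap, one_zpow, one_mul] at hk
      rwa [MulEquiv.symm_apply_eq] at hk
  have h1 : (e a).2⁻¹ = (e a).1 := congrArg Prod.fst hfix
  have h2 : (e a).1 * (e a).2⁻¹ = (e a).2 := congrArg Prod.snd hfix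
  have hsq : (e a).2 * (e a).2 = 1 := by
    have h : e a * e a = 1 := by rw [← map_mul, ← pow_two, hap, map_one]
    exact congrArg Prod.snd h
  have hinv2 : (e a).2⁻¹ = (e a).2 := inv_eq_of_mul_eq_one_right hsq
  rw [← h1, hinv2, hsq] at h2
  apply ha1
  apply e.injective
  rw [map_one]
  exact Prod.ext (by rw [← h1, hinv2, ← h2]; rfl) h2.symm

end Cfsg.Agent.Lib.MetacyclicChains
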