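import Cfsg.Agent.Lib.MetacyclicChains.Setup
import Cfsg.Agent.Lib.MetacyclicChains.Homocyclic
import Cfsg.Agent.Lib.Linear.SL2Sylow2
import Cfsg.Agent.S1217

/-!
Dihedral, semidihedral and generalised quaternion groups: saturated systems without a chain with
cyclic steps.
-/

set_option autoImplicit false
set_option maxHeartbeats 400000
set_option linter.style.haveILetI false

namespace Cfsg.Agent.Lib.MetacyclicChains

open Cfsg Subgroup
open Cfsg.Agent.Lib.TwoGroups Cfsg.Agent.Lib.TwoGroups.Recognition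
open Cfsg.Agent.Lib.TwoGroups.CyclicIndexTwo
open Cfsg.Agent.Lib.PSLTwo.Sylow (negOne)

theorem zpow_two_cases {X : Type*} [Group X] {z : X} (hz : z * z = 1) (i : ℤ) :
    z ^ i = 1 ∨ z ^ i = z := by
  rcases Int.even_or_odd i with ⟨j, rfl⟩ | ⟨j, rfl⟩
  · left; rw [← two_mul, _root_.zpow_mul, zpow_two, hz, one_zpow]
  · right; rw [zpow_add_one, _root_.zpow_mul, zpow_two, hz, one_zpow, one_mul]

/-- The quotient map from a generalised quaternion to a dihedral group. -/
def quatToDihedral (n : ℕ) : QuaternionGroup n →* DihedralGroup n :=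
  MonoidHom.mk' (fun q => match q with
    | .a i => .r (ZMod.castHom (dvd_mul_left n 2) (ZMod n) i)
    | .xa i => .sr (ZMod.castHom (dvd_mul_left n 2) (ZMod n) i))
    (by
      rintro (i | i) (j | j)
      · simp [QuaternionGroup.a_mul_a, DihedralGroup.r_mul_r, map_add]
      · simp [QuaternionGroup.a_mul_xa, DihedralGroup.r_mul_sr, map_sub]
      · simp [QuaternionGroup.xa_mul_a, DihedralGroup.sr_mul_r, map_add]
      · simp [QuaternionGroup.xa_mul_xa, DihedralGroup.sr_mul_sr, map_sub, map_add])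

theorem quatToDihedral_surjective (n : ℕ) : Function.Surjective (quatToDihedral n) := by
  rintro (i | i) <;>
    obtain ⟨j, hj⟩ := ZMod.ringHom_surjective (ZMod.castHom (dvd_mul_left n 2) (ZMod n)) i
  · exact ⟨.a j, congrArg DihedralGroup.r hj⟩
  · exact ⟨.xa j, congrArg DihedralGroup.sr hj⟩

theorem natCast_half_ne_zero {n : ℕ} [NeZero n] : ((n : ℕ) : ZMod (2 * n)) ≠ 0 := by
  rw [Ne, ZMod.natCast_eq_zero_iff]
  intro h
  have h0 := NeZero.pos n
  have := Nat.le_of_dvd h0 h
  omega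

theorem quatToDihedral_ker {n : ℕ} [NeZero n] {q : QuaternionGroup n}
    (h : quatToDihedral n q = 1) : q = 1 ∨ q = .a (n : ℕ) := by
  cases q with
  | a i =>
    have h' : DihedralGroup.r (ZMod.castHom (dvd_mul_left n 2) (ZMod n) i) = DihedralGroup.r 0 := h
    have h0 := DihedralGroup.r.inj h'
    rw [← ZMod.natCast_zmod_val i, map_natCast, ZMod.natCast_eq_zero_iff] at h0
    obtain ⟨t, ht⟩ := h0
    have hlt := ZMod.val_lt i
    have ht2 : t < 2 := by
      by_contra hc
      have := Nat.mul_le_mul_left n (not_lt.1 hc)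
      omega
    interval_cases t
    · left
      rw [← ZMod.natCast_zmod_val i, ht, mul_zero, Nat.cast_zero]
      rfl
    · right
      rw [← ZMod.natCast_zmod_val i, ht, mul_one]
  | xa i =>
    have h' : DihedralGroup.sr (ZMod.castHom (dvd_mul_left n 2) (ZMod n) i) = DihedralGroup.r 0 := h
    cases h'

theorem isPGroup_range {X G : Type*} [Group X] [Group G] [Finite X] [Finite G] {m e : ℕ}
    {ι : X →* G} (hι : Function.Injective ι) (hX : Nat.card X = 2 ^ m)
    (hG : Nat.card G = 2 ^ m * e) (he : Odd e) : ¬ 2 ∣ ι.range.index := by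
  have h := ι.range.card_mul_index
  rw [← Nat.card_congr (MonoidHom.ofInjective hι).toEquiv, hX, hG] at h
  rw [Nat.eq_of_mul_eq_mul_left (by positivity) h]
  exact fun h2 => Nat.not_even_iff_odd.2 he (even_iff_two_dvd.2 h2)

variable {Ω : Type*} [Group Ω] {S : Subgroup Ω} [Finite S]

theorem not_chains_dihedral (hS : IsPGroup 2 S) {j : ℕ} (hj : 2 ≤ j)
    (e : ↥S ≃* DihedralGroup (2 ^ j)) : ¬ AllHaveChains S 2 := by
  classical
  obtain ⟨p, c, d, hp, hc, hd, h1, h2, h3⟩ := exists_prime_two_part (a := j + 1) (by omega)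
  haveI : Fact p.Prime := ⟨hp⟩
  haveI : NeZero (2 ^ j) := ⟨pow_ne_zero _ two_ne_zero⟩
  have hodd : Odd p := Nat.odd_iff.2 (by omega)
  have hoddF : Fintype.card (ZMod p) % 2 = 1 := by rw [ZMod.card]; omega
  have h20 := two_ne_zero_zmod (p := p) hodd
  obtain ⟨eS, heS, hcardS⟩ := card_SL hc hd h1 h2 hodd
  obtain ⟨eP, heP, hcardP⟩ := card_PSL hc hd h1 h2 hodd
  let P : Sylow 2 (Matrix.SpecialLinearGroup (Fin 2) (ZMod p)) := Classical.arbitrary _
  obtain ⟨k, -, ⟨f⟩⟩ := Linear.sylow_two_SL2_quaternion (by rw [ZMod.card]; exact hodd) P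
  have hkj : k = j := by
    have h := sylow_card P hcardS heS
    haveI : NeZero (2 ^ k) := ⟨pow_ne_zero _ two_ne_zero⟩
    rw [Nat.card_congr f.toEquiv, Nat.card_eq_fintype_card, QuaternionGroup.card,
      show 4 * 2 ^ k = 2 ^ (k + 2) by ring] at h
    have := Nat.pow_right_injective le_rfl h
    omega
  subst hkj
  let π : Matrix.SpecialLinearGroup (Fin 2) (ZMod p) →*
      Matrix.ProjectiveSpecialLinearGroup (Fin 2) (ZMod p) := QuotientGroup.mk' _
  let φ : QuaternionGroup (2 ^ k) →* Matrix.SpecialLinearGroup (Fin 2) (ZMod p) :=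
    (P : Subgroup _).subtype.comp f.symm.toMonoidHom
  have hφ : Function.Injective φ := Subtype.val_injective.comp f.symm.injective
  have hπ : ∀ q, π q = 1 ↔ q = 1 ∨ q = negOne := fun q => by
    rw [← PSLTwo.Sylow.mem_center_iff' h20]; exact QuotientGroup.eq_one_iff q
  have hne : (QuaternionGroup.a ((2 ^ k : ℕ) : ZMod (2 * 2 ^ k))) ≠ 1 := fun h =>
    natCast_half_ne_zero (QuaternionGroup.a.inj h)
  have hnegz : φ (QuaternionGroup.a ((2 ^ k : ℕ) : ZMod (2 * 2 ^ k))) = negOne := by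
    refine (PSLTwo.Sylow.sq_eq_one h20 ?_).resolve_left fun h =>
      hne (hφ (h.trans (map_one φ).symm))
    rw [← map_mul, QuaternionGroup.a_mul_a, ← Nat.cast_add, ← two_mul, ZMod.natCast_self]
    exact map_one φ
  have hker : (quatToDihedral (2 ^ k)).ker ≤ (π.comp φ).ker := fun q hq => by
    rcases quatToDihedral_ker hq with rfl | rfl
    · exact one_mem _
    · exact (hπ _).2 (Or.inr hnegz)
  let ψ := (quatToDihedral (2 ^ k)).liftOfSurjective (quatToDihedral_surjective _) ⟨_, hker⟩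
  have hψ : ∀ q, ψ (quatToDihedral (2 ^ k) q) = π (φ q) :=
    MonoidHom.liftOfRightInverse_comp_apply _ _ _ ⟨_, hker⟩
  have hψi : Function.Injective ψ := by
    rw [injective_iff_map_eq_one]
    intro x hx
    obtain ⟨q, rfl⟩ := quatToDihedral_surjective _ x
    rw [hψ, hπ] at hx
    rcases hx with h | h
    · rw [hφ (h.trans (map_one φ).symm), map_one]
    · rw [hφ (h.trans hnegz.symm)]
      show DihedralGroup.r _ = DihedralGroup.r 0
      rw [map_natCast, ZMod.natCast_self]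
  let ι : S →* Matrix.ProjectiveSpecialLinearGroup (Fin 2) (ZMod p) := ψ.comp e.toMonoidHom
  have hι : Function.Injective ι := hψi.comp e.injective
  have hcard : Nat.card S = 2 ^ (k + 1) := by
    rw [Nat.card_congr e.toEquiv, DihedralGroup.nat_card]; ring
  haveI : Finite (Matrix.ProjectiveSpecialLinearGroup (Fin 2) (ZMod p)) :=
    Finite.of_surjective π (QuotientGroup.mk'_surjective _)
  have hpow : 2 ^ k = 4 * 2 ^ (k - 2) := by
    rw [show (4 : ℕ) = 2 ^ 2 from rfl, ← pow_add]; congr 1; omega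
  have h16 : 16 ∣ Fintype.card (ZMod p) ^ 2 - 1 := by
    rw [ZMod.card, show p ^ 2 - 1 ^ 2 = p ^ 2 - 1 by simp |>.symm, Nat.sq_sub_sq, h1, h2]
    exact ⟨2 ^ (k - 2) * c * d, by rw [pow_succ, hpow]; ring⟩
  obtain ⟨-, -, hconj, -⟩ := PSLTwo.Sylow.psl2_sylow hoddF h16 (Classical.arbitrary _)
  have htop : (⊥ : Subgroup S) ≠ ⊤ := by
    intro h
    have := congrArg (fun H : Subgroup S => Nat.card H) h
    simp only [card_bot, card_top, hcard] at this
    have := Nat.one_lt_two_pow (n := k + 1) (by omega)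
    omega
  refine obstruction ι hι (isPGroup_range hι hcard hcardP heP) hS ⊥ htop
    fun D x hD hne' _ hle => ?_
  rw [bot_sup_eq] at hle
  obtain ⟨a, ha2, ha1, hconjA⟩ := exists_prime_elt hι hS hD hne' hle
  have hall : ∀ b : S, b * b = 1 → b ≠ 1 → b = a := by
    intro b hb hb1
    obtain ⟨g, hg⟩ := hconj (ι a) (ι b)
      (by rw [orderOf_injective ι hι, orderOf_eq_prime ha2 ha1])
      (by rw [orderOf_injective ι hι, orderOf_eq_prime (by rw [pow_two, hb]) hb1])
    obtain ⟨i, hi⟩ := hconjA b ⟨g, hg.symm⟩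
    rcases zpow_two_cases (show a * a = 1 by rw [← pow_two, ha2]) i with h | h
    · exact absurd (hi.trans h) hb1
    · exact hi.trans h
  have hsr : ∀ i : ZMod (2 ^ k), e.symm (.sr i) = a := fun i =>
    hall _ (by rw [← map_mul, DihedralGroup.sr_mul_self, map_one]) (by
      rw [ne_eq, MulEquiv.map_eq_one_iff]
      exact fun (h : DihedralGroup.sr i = DihedralGroup.r 0) => by cases h)
  have h01 := e.symm.injective ((hsr 0).trans (hsr 1).symm)
  have h1' := DihedralGroup.sr.inj h01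
  haveI : Fact (1 < 2 ^ k) := ⟨Nat.one_lt_two_pow (by omega)⟩
  exact zero_ne_one h1'

/-- Squares in a closed subgroup that would be too small. -/
theorem closed_exponent_two {X G : Type*} [Group X] [Group G] {p : ℕ} [Fact p.Prime]
    (hp : Odd p) {emb : Matrix.SpecialLinearGroup (Fin 2) (ZMod p) →* G} (M : LinModel G emb)
    {ι : X →* G} (hι : Function.Injective ι) (hX : IsPGroup 2 X) {z : X}
    (hz : ι z = emb negOne) {D : Subgroup X} {x : X} (hD : Closed ι D)
    (hle : D ≤ zpowers z ⊔ zpowers x) {u v : X} (hu : u * u = z) (hv : v * v = z)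
    (huv : u * v ≠ v * u) : ∀ d ∈ D, d * d = 1 := by
  intro d hd
  by_contra hd2
  have hcz : ∀ g : X, z * g = g * z := fun g => hι (by rw [map_mul, map_mul, hz, M.central])
  obtain ⟨i, hi⟩ := IsPGroup.iff_orderOf.1 hX d
  have hi2 : 2 ≤ i := by
    by_contra h
    refine hd2 ?_
    rw [← pow_two, ← orderOf_dvd_iff_pow_eq_one, hi]
    exact (pow_dvd_pow 2 (by omega : i ≤ 1)).trans (by norm_num)
  set w := d ^ 2 ^ (i - 2) with hw
  have hw4 : w ^ 4 = 1 := by
    rw [hw, ← pow_mul, show 2 ^ (i - 2) * 4 = 2 ^ i by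
      rw [show (4 : ℕ) = 2 ^ 2 from rfl, ← pow_add]; congr 1; omega, ← hi, pow_orderOf_eq_one]
  have hw2 : w * w ≠ 1 := by
    rw [hw, ← pow_two, ← pow_mul, ← pow_succ, Ne, ← orderOf_dvd_iff_pow_eq_one, hi,
      Nat.pow_dvd_pow_iff_le_right one_lt_two]
    omega
  have hwz : w * w = z := by
    refine hι ?_
    rw [map_mul, hz]
    refine M.sq (ι w) (by rw [← map_pow, hw4, map_one]) fun h => hw2 (hι ?_)
    rw [map_mul, map_one, h]
  have hwD : w ∈ D := pow_mem hd _
  have hmem : ∀ y : X, y * y = z → y ∈ D := fun y hy =>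
    hD w y hwD (M.conj hp (by rw [← map_mul, hwz, hz]) (by rw [← map_mul, hy, hz]))
  have hC : zpowers z ⊔ zpowers x ≤ centralizer ({x} : Set X) := sup_le
    (zpowers_le.2 (mem_centralizer_singleton_iff.2 (hcz x)))
    (zpowers_le.2 (mem_centralizer_singleton_iff.2 rfl))
  have hC2 : zpowers z ⊔ zpowers x ≤ centralizer ({u} : Set X) := sup_le
    (zpowers_le.2 (mem_centralizer_singleton_iff.2 (hcz u)))
    (zpowers_le.2 (mem_centralizer_singleton_iff.2
      (mem_centralizer_singleton_iff.1 (hC (hle (hmem u hu)))).symm))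
  exact huv (mem_centralizer_singleton_iff.1 (hC2 (hle (hmem v hv)))).symm

theorem not_chains_quaternion (hS : IsPGroup 2 S) {j : ℕ} (hj : 1 ≤ j)
    (e : ↥S ≃* QuaternionGroup (2 ^ j)) : ¬ AllHaveChains S 2 := by
  classical
  obtain ⟨p, c, d, hp, hc, hd, h1, h2, -⟩ := exists_prime_two_part (a := j + 1) (by omega)
  haveI : Fact p.Prime := ⟨hp⟩
  haveI : NeZero (2 ^ j) := ⟨pow_ne_zero _ two_ne_zero⟩
  have hp4 : 2 ∣ p - 1 := ⟨d, h2⟩
  have hodd : Odd p := hp.odd_of_ne_two (by rintro rfl; omega)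
  have h20 := two_ne_zero_zmod (p := p) hodd
  obtain ⟨eS, heS, hcardS⟩ := card_SL hc hd h1 h2 hodd
  let P : Sylow 2 (Matrix.SpecialLinearGroup (Fin 2) (ZMod p)) := Classical.arbitrary _
  obtain ⟨k, -, ⟨f⟩⟩ := Linear.sylow_two_SL2_quaternion (by rw [ZMod.card]; exact hodd) P
  have hcP := sylow_card P hcardS heS
  have hkj : k = j := by
    haveI : NeZero (2 ^ k) := ⟨pow_ne_zero _ two_ne_zero⟩
    have h := hcP
    rw [Nat.card_congr f.toEquiv, Nat.card_eq_fintype_card, QuaternionGroup.card,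
      show 4 * 2 ^ k = 2 ^ (k + 2) by ring] at h
    have := Nat.pow_right_injective le_rfl h
    omega
  subst hkj
  let ι : S →* Matrix.SpecialLinearGroup (Fin 2) (ZMod p) :=
    (P : Subgroup _).subtype.comp (e.trans f.symm).toMonoidHom
  have hι : Function.Injective ι := Subtype.val_injective.comp (e.trans f.symm).injective
  have hcard : Nat.card S = 2 ^ (k + 1 + 1) := by
    rw [Nat.card_congr (e.trans f.symm).toEquiv, hcP]
  set z := e.symm (.a ((2 ^ k : ℕ) : ZMod (2 * 2 ^ k))) with hzdef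
  have hz2 : z * z = 1 := by
    rw [hzdef, ← map_mul, QuaternionGroup.a_mul_a, ← Nat.cast_add, ← two_mul, ZMod.natCast_self]
    exact map_one _
  have hz1 : z ≠ 1 := by
    rw [hzdef, Ne, MulEquiv.map_eq_one_iff]
    exact fun h => natCast_half_ne_zero (QuaternionGroup.a.inj h)
  have hz : ι z = negOne := (PSLTwo.Sylow.sq_eq_one h20 (by rw [← map_mul, hz2, map_one]))
    |>.resolve_left fun h => hz1 (hι (h.trans (map_one ι).symm))
  have hsq : ∀ i : ZMod (2 * 2 ^ k), e.symm (.xa i) * e.symm (.xa i) = z := fun i => by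
    rw [hzdef, ← map_mul, QuaternionGroup.xa_mul_xa, add_sub_cancel_right]
  have huv : e.symm (.xa 0) * e.symm (.xa 1) ≠ e.symm (.xa 1) * e.symm (.xa 0) := by
    rw [← map_mul, ← map_mul, e.symm.injective.ne_iff, QuaternionGroup.xa_mul_xa,
      QuaternionGroup.xa_mul_xa]
    intro h
    have h' := QuaternionGroup.a.inj h
    have h2' : ((2 : ℕ) : ZMod (2 * 2 ^ k)) = 0 := by push_cast; linear_combination h'
    rw [ZMod.natCast_eq_zero_iff] at h2'
    have := Nat.le_of_dvd two_pos h2'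
    have := Nat.one_lt_two_pow (n := k) (by omega)
    omega
  have hZ : zpowers z ≠ ⊤ := by
    intro h
    obtain ⟨i, hi⟩ := mem_zpowers_iff.1 (h ▸ mem_top (e.symm (.xa 0)) :
      e.symm (.xa 0) ∈ zpowers z)
    obtain ⟨l, hl⟩ := mem_zpowers_iff.1 (h ▸ mem_top (e.symm (.xa 1)) :
      e.symm (.xa 1) ∈ zpowers z)
    exact huv (by rw [← hi, ← hl, ← zpow_add, ← zpow_add, add_comm])
  refine obstruction ι hι (isPGroup_range hι hcard hcardS heS) hS (zpowers z) hZ
    fun D x hD hne _ hle => ?_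
  obtain ⟨y, hyD, hy⟩ := SetLike.not_le_iff_exists.1 hne
  have hy2 := closed_exponent_two hodd (linModel_SL hodd) hι hS hz hD hle
    (hsq 0) (hsq 1) huv y hyD
  rcases PSLTwo.Sylow.sq_eq_one h20 (g := ι y) (by rw [← map_mul, hy2, map_one]) with h | h
  · exact hy (hι (h.trans (map_one ι).symm) ▸ one_mem _)
  · exact hy (hι (h.trans hz.symm) ▸ mem_zpowers z)

/-- Two groups with the same data are isomorphic. -/
theorem nonempty_equiv_of_data {A B : Type*} [Group A] [Group B] {N : ℕ} {r s : ZMod N}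
    {x y : A} {x' y' : B} (D : Data N r s x y) (D' : Data N r s x' y') : Nonempty (A ≃* B) := by
  classical
  have hbij : ∀ {C : Type _} [Group C] {u v : C}, Data N r s u v → Function.Bijective
      (Sum.elim (fun i => powZ N u i) (fun i => powZ N u i * v) : ZMod N ⊕ ZMod N → C) := by
    intro C _ u v E
    refine ⟨?_, fun g => ?_⟩
    · rintro (i | i) (j | j) h
      · exact congrArg Sum.inl (E.inj h)
      · exact absurd h.symm (E.mul_ne_powZ j i)
      · exact absurd h (E.mul_ne_powZ i j)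
      · exact congrArg Sum.inr (E.mul_powZ_y_inj h)
    · rcases E.cases g with ⟨i, rfl⟩ | ⟨i, rfl⟩
      · exact ⟨Sum.inl i, rfl⟩
      · exact ⟨Sum.inr i, rfl⟩
  let φA := Equiv.ofBijective _ (hbij D)
  have hbij' : Function.Bijective
      (Sum.elim (fun i => powZ N x' i) (fun i => powZ N x' i * y') : ZMod N ⊕ ZMod N → B) := by
    refine ⟨?_, fun g => ?_⟩
    · rintro (i | i) (j | j) h
      · exact congrArg Sum.inl (D'.inj h)
      · exact absurd h.symm (D'.mul_ne_powZ j i)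
      · exact absurd h (D'.mul_ne_powZ i j)
      · exact congrArg Sum.inr (D'.mul_powZ_y_inj h)
    · rcases D'.cases g with ⟨i, rfl⟩ | ⟨i, rfl⟩
      · exact ⟨Sum.inl i, rfl⟩
      · exact ⟨Sum.inr i, rfl⟩
  let e : A ≃ B := φA.symm.trans (Equiv.ofBijective _ hbij')
  have hc : ∀ i, e (powZ N x i) = powZ N x' i := fun i => by
    show (Equiv.ofBijective _ hbij') (φA.symm (φA (Sum.inl i))) = _
    rw [Equiv.symm_apply_apply]; rfl
  have ho : ∀ i, e (powZ N x i * y) = powZ N x' i * y' := fun i => by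
    show (Equiv.ofBijective _ hbij') (φA.symm (φA (Sum.inr i))) = _
    rw [Equiv.symm_apply_apply]; rfl
  refine ⟨MulEquiv.mk e fun g h => ?_⟩
  show e (g * h) = e g * e h
  rcases D.cases g with ⟨i, rfl⟩ | ⟨i, rfl⟩ <;> rcases D.cases h with ⟨l, rfl⟩ | ⟨l, rfl⟩
  · rw [D.mul_cc, hc, hc, hc, D'.mul_cc]
  · rw [D.mul_cy, hc, ho, ho, D'.mul_cy]
  · rw [D.mul_yc, hc, ho, ho, D'.mul_yc]
  · rw [D.mul_yy, hc, ho, ho, D'.mul_yy]

theorem not_chains_quasiDihedral (hS : IsPGroup 2 S) (hq : Cfsg.IsQuasiDihedral ↥S) :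
    ¬ AllHaveChains S 2 := by
  classical
  obtain ⟨k, x₀, y₀, D₀⟩ := QuasiDihedral.exists_QD hq
  obtain ⟨p, c, d, hp, hc, hd, h1, h2, h3⟩ := exists_prime_two_part (a := k + 2) (by omega)
  haveI : Fact p.Prime := ⟨hp⟩
  have hodd : Odd p := Nat.odd_iff.2 (by omega)
  obtain ⟨eG, heG, hcardG⟩ := card_GL hc hd h1 h2 hodd
  let P : Sylow 2 (GL (Fin 2) (ZMod p)) := Classical.arbitrary _
  obtain ⟨k', x', y', D'⟩ := QuasiDihedral.exists_QD
    ((Cfsg.Agent.S1217.result P).1 (by rw [ZMod.card]; exact h3))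
  have hkk : k' = k := by
    have h := sylow_card P hcardG heG
    rw [QuasiDihedral.card_eq D'] at h
    have := Nat.pow_right_injective le_rfl h
    omega
  subst hkk
  obtain ⟨f⟩ := nonempty_equiv_of_data D₀ D'
  let ι : S →* GL (Fin 2) (ZMod p) := (P : Subgroup _).subtype.comp f.toMonoidHom
  have hι : Function.Injective ι := Subtype.val_injective.comp f.injective
  have hcard : Nat.card S = 2 ^ (k' + 2 + 2) := QuasiDihedral.card_eq D₀
  have M := linModel_GL hodd h3
  set emb := (Matrix.SpecialLinearGroup.toGL :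
    Matrix.SpecialLinearGroup (Fin 2) (ZMod p) →* GL (Fin 2) (ZMod p))
  let N := 2 ^ (k' + 3)
  have hw := D₀.mul_cc (QuasiDihedral.quarter k') (QuasiDihedral.quarter k')
  rw [QuasiDihedral.quarter_add_quarter] at hw
  set z := powZ (2 ^ (k' + 3)) x₀ (QuasiDihedral.half k') with hzdef
  have hz1 : z ≠ 1 := fun h => QuasiDihedral.half_ne_zero k' (D₀.powZ_eq_one_iff.1 h)
  have hz2 : z * z = 1 := by
    rw [hzdef, D₀.mul_cc, QuasiDihedral.half_add_half, powZ_zero]
  have hz : ι z = emb negOne := by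
    rw [← hw, map_mul]
    refine M.sq _ ?_ fun h => hz1 (hι (by rw [← hw, map_mul, h, map_one]))
    have h4 : ι z * ι z = 1 := by rw [← map_mul, hz2, map_one]
    rw [← hw, map_mul] at h4
    rw [show (4 : ℕ) = 2 * 2 from rfl, pow_mul, pow_two, pow_two]
    exact h4
  have hv := QuasiDihedral.sq_outer D₀ 1
  rw [mul_one, ← hzdef] at hv
  have hneq : QuasiDihedral.quarter k' + 1 ≠
      1 + (QuasiDihedral.half k' - 1) * QuasiDihedral.quarter k' := fun h => by
    refine QuasiDihedral.half_ne_zero k' ?_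
    linear_combination h - QuasiDihedral.quarter_add_quarter k' +
      QuasiDihedral.half_mul_even (QuasiDihedral.par_quarter k')
  have huv : powZ N x₀ (QuasiDihedral.quarter k') * (powZ N x₀ 1 * y₀) ≠
      powZ N x₀ 1 * y₀ * powZ N x₀ (QuasiDihedral.quarter k') := by
    rw [D₀.mul_cy, D₀.mul_yc]
    exact fun h => hneq (D₀.mul_powZ_y_inj h)
  have hcz : ∀ g : S, z * g = g * z := fun g => hι (by rw [map_mul, map_mul, hz, M.central])
  haveI hZn : (zpowers z).Normal := ⟨fun a ha g => by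
    obtain ⟨i, rfl⟩ := mem_zpowers_iff.1 ha
    rw [← (Commute.zpow_left (hcz g) i).eq, mul_inv_cancel_right]
    exact zpow_mem (mem_zpowers z) i⟩
  have hZ : zpowers z ≠ ⊤ := fun h => D₀.notMem (by
    have : y₀ ∈ zpowers z := h ▸ mem_top y₀
    obtain ⟨i, rfl⟩ := mem_zpowers_iff.1 this
    exact zpow_mem (powZ_mem_zpowers _ _ _) i)
  refine obstruction ι hι (isPGroup_range hι hcard hcardG heG) hS (zpowers z) hZ
    fun D x hD hne hx hle => ?_
  have hexp := closed_exponent_two hodd M hι hS hz hD hle hw hv huv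
  have hfour : ∀ g ∈ D, g = 1 ∨ g = z ∨ g = x ∨ g = z * x := by
    intro g hg
    obtain ⟨a, ha, b, hb, rfl⟩ := Subgroup.mem_sup_of_normal_left.1 (hle hg)
    obtain ⟨i, rfl⟩ := mem_zpowers_iff.1 ha
    obtain ⟨l, rfl⟩ := mem_zpowers_iff.1 hb
    rcases zpow_two_cases hz2 i with h | h <;> rcases zpow_two_cases (hexp x hx) l with h' | h' <;>
      simp [h, h']
  obtain ⟨y, hyD, hy⟩ := SetLike.not_le_iff_exists.1 hne
  obtain ⟨i, rfl⟩ : ∃ i, y = powZ N x₀ i * y₀ := by
    rcases D₀.cases y with ⟨i, rfl⟩ | h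
    · have h := hexp _ hyD
      rw [D₀.mul_cc, D₀.powZ_eq_one_iff] at h
      rcases QuasiDihedral.add_self_eq_zero h with rfl | rfl
      · exact absurd (by rw [powZ_zero]; exact one_mem _) hy
      · exact absurd (mem_zpowers z) hy
    · exact h
  have hbD := hD _ (powZ N x₀ 1 * (powZ N x₀ i * y₀) * (powZ N x₀ 1)⁻¹) hyD
    ⟨ι (powZ N x₀ 1), by simp only [map_mul, map_inv]⟩
  have hb : powZ N x₀ 1 * (powZ N x₀ i * y₀) * (powZ N x₀ 1)⁻¹ =
      powZ N x₀ (i + 2 - QuasiDihedral.half k') * y₀ := by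
    rw [D₀.mul_cy, D₀.powZ_inv, D₀.mul_yc]
    congr 2; ring
  rw [hb] at hbD
  have hout : ∀ l, powZ N x₀ l * y₀ ≠ 1 ∧ powZ N x₀ l * y₀ ≠ z := fun l =>
    ⟨fun h => D₀.mul_ne_powZ l 0 (h.trans (powZ_zero _ _).symm), fun h => D₀.mul_ne_powZ l _ h⟩
  have hxy : ∀ g ∈ D, (∃ l, g = powZ N x₀ l * y₀) → g = x ∨ g = z * x := by
    rintro _ hg ⟨l, rfl⟩
    rcases hfour _ hg with h | h | h | h
    · exact absurd h (hout l).1
    · exact absurd h (hout l).2
    · exact Or.inl h
    · exact Or.inr h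
  have hcases : powZ N x₀ (i + 2 - QuasiDihedral.half k') * y₀ = powZ N x₀ i * y₀ ∨
      powZ N x₀ (i + 2 - QuasiDihedral.half k') * y₀ = z * (powZ N x₀ i * y₀) := by
    rcases hxy _ hbD ⟨_, rfl⟩ with h | h <;> rcases hxy _ hyD ⟨_, rfl⟩ with h' | h' <;>
      rw [h, h']
    · exact Or.inl rfl
    · exact Or.inr (by rw [← mul_assoc, hz2, one_mul])
    · exact Or.inr rfl
    · exact Or.inl rfl
  have h2ne : ((2 : ℕ) : ZMod (2 ^ (k' + 3))) ≠ 0 ∧
      ((2 : ℕ) : ZMod (2 ^ (k' + 3))) ≠ QuasiDihedral.half k' := by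
    have hb : 0 < 2 ^ k' := by positivity
    have e3 : 2 ^ (k' + 3) = 8 * 2 ^ k' := by ring
    have e2 : 2 ^ (k' + 2) = 4 * 2 ^ k' := by ring
    constructor
    · rw [Ne, ZMod.natCast_eq_zero_iff]
      intro h
      have := Nat.le_of_dvd two_pos h
      omega
    · rw [QuasiDihedral.half, Ne, ZMod.natCast_eq_natCast_iff', Nat.mod_eq_of_lt (by omega),
        Nat.mod_eq_of_lt (by omega)]
      omega
  rcases hcases with h | h
  · refine h2ne.2 ?_
    push_cast
    linear_combination D₀.mul_powZ_y_inj h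
  · rw [hzdef, D₀.mul_cy] at h
    refine h2ne.1 ?_
    push_cast
    linear_combination D₀.mul_powZ_y_inj h + QuasiDihedral.half_add_half k'

end Cfsg.Agent.Lib.MetacyclicChains
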