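import Cfsg.Agent.Lib.TwoGroups.MetacyclicTwo

/-!
A metacyclic `p`-group, `p` odd, that is not homocyclic of rank two has a characteristic subgroup of
index `p`, and a chain of characteristic subgroups with cyclic steps.
-/

set_option autoImplicit false
set_option maxHeartbeats 400000

namespace Cfsg.Agent.Lib.MetacyclicChains.CharIndex

open Subgroup Cfsg.Agent.Lib.PGroups Cfsg.Agent.Lib.TwoGroups
open scoped commutatorElement

variable {X : Type*} [Group X] {p : ℕ}

/-- The power of a product in a group in which the commutator is central. -/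
theorem mul_pow_central {x y : X} (h : ⁅y, x⁆ ∈ center X) (n : ℕ) :
    (x * y) ^ n = x ^ n * y ^ n * ⁅y, x⁆ ^ (n.choose 2) := by
  set d := ⁅y, x⁆ with hd
  have hc : ∀ z : X, d * z = z * d := fun z => (mem_center_iff.1 h z).symm
  have hk : ∀ (k : ℕ) (z : X), d ^ k * z = z * d ^ k := fun k z => (Commute.pow_left (hc z) k).eq
  have hswap : ∀ n : ℕ, y ^ n * x = x * y ^ n * d ^ n := by
    intro n
    induction n with
    | zero => simp
    | succ n ih =>
      have hyx : y * x = x * y * d := by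
        rw [← hc, hd, commutatorElement_def]; group
      calc y ^ (n + 1) * x = y * (y ^ n * x) := by rw [pow_succ', mul_assoc]
        _ = y * (x * y ^ n * d ^ n) := by rw [ih]
        _ = (y * x) * y ^ n * d ^ n := by simp only [mul_assoc]
        _ = x * y * d * y ^ n * d ^ n := by rw [hyx]
        _ = x * (y * y ^ n) * (d * d ^ n) := by
          rw [mul_assoc (x * y) d (y ^ n), hc (y ^ n)]; simp only [mul_assoc]
        _ = _ := by rw [← pow_succ', ← pow_succ']
  induction n with
  | zero => simp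
  | succ n ih =>
    calc (x * y) ^ (n + 1) = x ^ n * y ^ n * d ^ (n.choose 2) * (x * y) := by rw [pow_succ, ih]
      _ = x ^ n * (y ^ n * x) * y * d ^ (n.choose 2) := by
          rw [mul_assoc (x ^ n * y ^ n), hk]; simp only [mul_assoc]
      _ = x ^ n * (x * y ^ n * d ^ n) * y * d ^ (n.choose 2) := by rw [hswap]
      _ = x ^ (n + 1) * y ^ (n + 1) * (d ^ n * d ^ (n.choose 2)) := by
          rw [pow_succ x, pow_succ y]
          simp only [mul_assoc]
          rw [← mul_assoc (d ^ n) y, hk n y, mul_assoc]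
      _ = _ := by rw [← pow_add, Nat.choose_succ_succ' n 1, Nat.choose_one_right]

theorem char_sup {H K : Subgroup X} (hH : H.Characteristic) (hK : K.Characteristic) :
    (H ⊔ K).Characteristic := by
  rw [characteristic_iff_map_eq]
  intro φ
  rw [Subgroup.map_sup, characteristic_iff_map_eq.1 hH φ, characteristic_iff_map_eq.1 hK φ]

theorem char_of_map_mem {K : Subgroup X} (h : ∀ (φ : X ≃* X), ∀ x ∈ K, φ x ∈ K) :
    K.Characteristic := by
  rw [characteristic_iff_comap_eq]
  intro φ
  ext x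
  refine ⟨fun hx => ?_, h φ x⟩
  have := h φ.symm _ hx
  simpa using this

variable [Finite X] [hp : Fact p.Prime]

/-- Two elements generating modulo the Frattini subgroup bound its index. -/
theorem index_frattini_le (hX : IsPGroup p X) {a b : X}
    (hgen : ∀ x : X, ∃ i j : ℤ, x = a ^ i * b ^ j) : (frattini X).index ≤ p ^ 2 := by
  classical
  have hord : ∀ (z : X) (i : ℤ), (z : X ⧸ frattini X) ^ i = (z : X ⧸ frattini X) ^ (i % p) := by
    intro z i
    refine zpow_eq_zpow_emod' i ?_
    rw [← QuotientGroup.mk_pow, QuotientGroup.eq_one_iff]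
    exact pow_mem_frattini hX z
  let f : ZMod p × ZMod p → X ⧸ frattini X :=
    fun v => (a : X ⧸ frattini X) ^ v.1.val * (b : X ⧸ frattini X) ^ v.2.val
  have hf : Function.Surjective f := by
    intro q
    obtain ⟨x, rfl⟩ := QuotientGroup.mk_surjective q
    obtain ⟨i, j, rfl⟩ := hgen x
    refine ⟨((i : ZMod p), (j : ZMod p)), ?_⟩
    show (a : X ⧸ frattini X) ^ (i : ZMod p).val * (b : X ⧸ frattini X) ^ (j : ZMod p).val = _
    rw [QuotientGroup.mk_mul, QuotientGroup.mk_zpow, QuotientGroup.mk_zpow, hord a i, hord b j,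
      ← zpow_natCast, ← zpow_natCast, ZMod.val_intCast, ZMod.val_intCast]
  have := Nat.card_le_card_of_surjective f hf
  rwa [Nat.card_prod, Nat.card_zmod, ← Subgroup.index_eq_card, ← pow_two] at this

/-- A Frattini subgroup of index `p` makes the group cyclic. -/
theorem isCyclic_of_index (h : (frattini X).index = p) : IsCyclic X := by
  have : IsCyclic (X ⧸ frattini X) := isCyclic_of_prime_card (by rw [← index_eq_card, h])
  exact isCyclic_of_quotient_le_frattini (frattini X) le_rfl

/-- The dichotomy. -/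
theorem exists_char_index (hp2 : p ≠ 2) (hX : IsPGroup p X) (hm : Cfsg.IsMetacyclic X)
    (h1 : Nontrivial X) :
    (∃ M : Subgroup X, M.Characteristic ∧ M.index = p) ∨
      ∃ n : ℕ, 0 < n ∧
        Nonempty (X ≃* Multiplicative (ZMod (p ^ n)) × Multiplicative (ZMod (p ^ n))) := by
  classical
  by_cases hidx : (frattini X).index = p
  · exact Or.inl ⟨frattini X, inferInstance, hidx⟩
  rw [or_iff_not_imp_left]
  intro hno
  obtain ⟨a, b, hNn, hgen, hDN⟩ := MetacyclicTwo.exists_gens hm
  set Φ := frattini X with hΦ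
  set D := commutator X with hD
  have hΦtop : Φ ≠ ⊤ := fun h => by
    obtain h' := frattini_nongenerating (G := X) (K := ⊥) (by rw [← hΦ, h, sup_top_eq])
    exact absurd h' (by simp)
  have hidx2 : Φ.index = p ^ 2 := by
    obtain ⟨k, hk⟩ := hX.index Φ
    have hle := index_frattini_le hX hgen
    rw [← hΦ, hk, Nat.pow_le_pow_iff_right hp.out.one_lt] at hle
    interval_cases k
    · exact absurd (Subgroup.index_eq_one.1 (by simpa using hk)) hΦtop
    · exact absurd (by simpa using hk) hidx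
    · exact hk
  have hfull : ∀ K : Subgroup X, K.Characteristic → (∃ x ∈ K, x ∉ Φ) → K = ⊤ := by
    intro K hK ⟨x, hxK, hx⟩
    refine frattini_nongenerating ?_
    by_contra hne
    refine hno ⟨K ⊔ Φ, char_sup hK inferInstance, ?_⟩
    have hlt : Φ < K ⊔ Φ := lt_of_le_not_ge le_sup_right fun h => hx (h (mem_sup_left hxK))
    have hdvd := Subgroup.index_dvd_of_le (le_sup_right : Φ ≤ K ⊔ Φ)
    rw [hidx2] at hdvd
    obtain ⟨k, hk, hk'⟩ := (Nat.dvd_prime_pow hp.out).1 hdvd
    interval_cases k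
    · exact absurd (Subgroup.index_eq_one.1 (by simpa using hk')) hne
    · simpa using hk'
    · have h2 := Subgroup.index_strictAnti hlt
      rw [hk', hidx2] at h2
      omega
  have hgenΦ : ∀ (u v : X), (∀ x : X, ∃ i j : ℤ, x = u ^ i * v ^ j) → u ∉ zpowers v ⊔ Φ := by
    intro u v hg h
    have htop : zpowers v ⊔ Φ = ⊤ := eq_top_iff.2 fun x _ => by
      obtain ⟨i, j, rfl⟩ := hg x
      exact mul_mem (zpow_mem h i) (mem_sup_left (zpow_mem (mem_zpowers v) j))
    have hc : IsCyclic X := isCyclic_iff_exists_zpowers_eq_top.2 ⟨v, frattini_nongenerating htop⟩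
    refine hidx ?_
    obtain ⟨g, hg'⟩ := isCyclic_iff_exists_zpowers_eq_top.1 hc
    have := index_frattini_le (p := p) hX (a := g) (b := 1) (fun x => by
      obtain ⟨i, hi⟩ := mem_zpowers_iff.1 (hg' ▸ mem_top x : x ∈ zpowers g)
      exact ⟨i, 0, by rw [hi, one_zpow, mul_one]⟩)
    -- a cyclic group has Frattini quotient of order `p`
    have hcard : Nat.card (X ⧸ Φ) ∣ p := by
      have : IsCyclic (X ⧸ Φ) := isCyclic_of_surjective (QuotientGroup.mk' Φ)
        (QuotientGroup.mk'_surjective Φ)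
      rw [← IsCyclic.exponent_eq_card]
      refine Monoid.exponent_dvd_of_forall_pow_eq_one fun q => ?_
      obtain ⟨x, rfl⟩ := QuotientGroup.mk_surjective q
      rw [← QuotientGroup.mk_pow, QuotientGroup.eq_one_iff]
      exact pow_mem_frattini hX x
    rcases (Nat.dvd_prime hp.out).1 hcard with h | h
    · exact absurd (Subgroup.index_eq_one.1 (by rw [index_eq_card, h])) hΦtop
    · rw [index_eq_card, h]
  have hgen' : ∀ x : X, ∃ i j : ℤ, x = b ^ i * a ^ j := fun x => by
    obtain ⟨i, j, h⟩ := hgen x⁻¹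
    exact ⟨-j, -i, by rw [← inv_inv x, h, mul_inv_rev, zpow_neg, zpow_neg]⟩
  have ha : a ∉ zpowers b ⊔ Φ := hgenΦ a b hgen
  have hb : b ∉ zpowers a ⊔ Φ := hgenΦ b a hgen'
  have haΦ : a ∉ Φ := fun h => ha (mem_sup_right h)
  have hprod : ∀ i j : ℤ, a ^ i * b ^ j ∈ Φ → (p : ℤ) ∣ i ∧ (p : ℤ) ∣ j := by
    intro i j h
    have key : ∀ (u : X) (H : Subgroup X) (k : ℤ), Φ ≤ H → u ∉ H → u ^ k ∈ H → (p : ℤ) ∣ k := by
      intro u H k hH hu hk
      by_contra hnd
      obtain ⟨s, t, hst⟩ :=
        ((Nat.prime_iff_prime_int.1 hp.out).coprime_iff_not_dvd.2 hnd).symm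
      refine hu ?_
      have h2 : u ^ (p : ℤ) ∈ H := by rw [zpow_natCast]; exact hH (pow_mem_frattini hX u)
      have h3 := mul_mem (zpow_mem hk s) (zpow_mem h2 t)
      rwa [← _root_.zpow_mul, ← _root_.zpow_mul, ← zpow_add, mul_comm k, mul_comm (p : ℤ) t,
        hst, zpow_one] at h3
    refine ⟨key a _ i le_sup_right ha ?_, key b _ j le_sup_right hb ?_⟩
    · rw [show a ^ i = a ^ i * b ^ j * (b ^ j)⁻¹ by group]
      exact mul_mem (mem_sup_right h) (mem_sup_left (inv_mem (zpow_mem (mem_zpowers b) j)))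
    · rw [show b ^ j = (a ^ i)⁻¹ * (a ^ i * b ^ j) by group]
      exact mul_mem (mem_sup_left (inv_mem (zpow_mem (mem_zpowers a) i))) (mem_sup_right h)
  have hcommQ : ∀ u v : X ⧸ D, u * v = v * u := fun u v =>
    (Normal.quotient_commutative_iff_commutator_le.mpr (le_refl (commutator X))).is_comm.comm u v
  -- all elements outside the Frattini subgroup have one order modulo `D`
  have hKj : ∀ (j : ℕ) (x : X), x ∉ Φ → x ^ p ^ j ∈ D → ∀ y : X, y ^ p ^ j ∈ D := by
    intro j x hx hxj
    let K : Subgroup X :=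
      { carrier := {y | y ^ p ^ j ∈ D}
        one_mem' := by simp
        mul_mem' := fun {u v} hu hv => by
          show (u * v) ^ p ^ j ∈ D
          rw [← QuotientGroup.eq_one_iff, QuotientGroup.mk_pow, QuotientGroup.mk_mul,
            Commute.mul_pow (hcommQ _ _),
            ← QuotientGroup.mk_pow, ← QuotientGroup.mk_pow,
            (QuotientGroup.eq_one_iff _).2 hu, (QuotientGroup.eq_one_iff _).2 hv, one_mul]
        inv_mem' := fun {u} hu => by
          show u⁻¹ ^ p ^ j ∈ D
          rw [inv_pow]; exact inv_mem hu }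
    have hKc : K.Characteristic := char_of_map_mem fun φ y hy => by
      show φ y ^ p ^ j ∈ D
      rw [← map_pow]
      exact (characteristic_iff_map_eq.1 (inferInstance : (commutator X).Characteristic) φ).le
        ⟨_, hy, rfl⟩
    have := hfull K hKc ⟨x, hxj, hx⟩
    exact fun y => (this ▸ mem_top y : y ∈ K)
  have hex : ∃ j : ℕ, a ^ p ^ j ∈ D := by
    obtain ⟨k, hk⟩ := hX a
    exact ⟨k, by rw [hk]; exact one_mem _⟩
  set m := Nat.find hex with hm'
  have hall : ∀ y : X, y ^ p ^ m ∈ D := hKj m a haΦ (Nat.find_spec hex)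
  have hmin : ∀ x : X, x ∉ Φ → ∀ j : ℕ, x ^ p ^ j ∈ D → m ≤ j := fun x hx j hj =>
    Nat.find_min' _ (hKj j x hx hj a)
  have hDΦ : D ≤ Φ := commutator_le_frattini hX
  have hm1 : 1 ≤ m := by
    by_contra h
    have h0 : m = 0 := by omega
    have := hall a
    rw [h0, pow_zero, pow_one] at this
    exact haΦ (hDΦ this)
  have hsep : ∀ i j : ℤ, a ^ i * b ^ j ∈ D → ((p ^ m : ℕ) : ℤ) ∣ i ∧ ((p ^ m : ℕ) : ℤ) ∣ j := by
    intro i j h
    suffices hs : ∀ s ≤ m, ((p ^ s : ℕ) : ℤ) ∣ i ∧ ((p ^ s : ℕ) : ℤ) ∣ j from hs m le_rfl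
    intro s hs
    induction s with
    | zero => simp
    | succ s ih =>
      obtain ⟨⟨i', rfl⟩, ⟨j', rfl⟩⟩ := ih (by omega)
      have hz : (a ^ i' * b ^ j') ^ p ^ s ∈ D := by
        rw [← QuotientGroup.eq_one_iff, QuotientGroup.mk_pow, QuotientGroup.mk_mul,
          QuotientGroup.mk_zpow, QuotientGroup.mk_zpow, Commute.mul_pow (hcommQ _ _),
          ← zpow_natCast, ← zpow_natCast, ← _root_.zpow_mul, ← _root_.zpow_mul,
          ← QuotientGroup.mk_zpow, ← QuotientGroup.mk_zpow, ← QuotientGroup.mk_mul,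
          QuotientGroup.eq_one_iff, mul_comm i', mul_comm j']
        exact h
      have hnot : a ^ i' * b ^ j' ∈ Φ := by
        by_contra hn
        have := hmin _ hn s hz
        omega
      obtain ⟨⟨i'', rfl⟩, ⟨j'', rfl⟩⟩ := hprod i' j' hnot
      constructor
      · exact ⟨i'', by rw [pow_succ]; push_cast; ring⟩
      · exact ⟨j'', by rw [pow_succ]; push_cast; ring⟩
  by_cases hD0 : D = ⊥
  · refine ⟨m, hm1, ?_⟩
    have hab : ∀ u v : X, u * v = v * u := fun u v => by
      rw [← commutatorElement_eq_one_iff_mul_comm, ← Subgroup.mem_bot, ← hD0]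
      exact commutator_mem_commutator (mem_top _) (mem_top _)
    have hpow : ∀ y : X, y ^ p ^ m = 1 := fun y => by
      have := hall y; rwa [hD0, Subgroup.mem_bot] at this
    have : NeZero (p ^ m) := ⟨pow_ne_zero _ hp.out.ne_zero⟩
    let f : Multiplicative (ZMod (p ^ m)) × Multiplicative (ZMod (p ^ m)) →* X :=
      MonoidHom.mk' (fun v => a ^ (Multiplicative.toAdd v.1).val * b ^ (Multiplicative.toAdd v.2).val)
        fun v q => by
          have key : ∀ (z : X) (i j : ZMod (p ^ m)), z ^ (i + j).val = z ^ i.val * z ^ j.val := by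
            intro z i j
            rw [ZMod.val_add, ← pow_add]
            exact (pow_eq_pow_mod _ (hpow z)).symm
          simp only [Prod.fst_mul, Prod.snd_mul, toAdd_mul, key]
          rw [mul_assoc, ← mul_assoc (a ^ (Multiplicative.toAdd q.1).val),
            hab (a ^ (Multiplicative.toAdd q.1).val), ← mul_assoc, ← mul_assoc, ← mul_assoc]
    refine ⟨(MulEquiv.ofBijective f ⟨?_, ?_⟩).symm⟩
    · rw [injective_iff_map_eq_one]
      rintro ⟨i, j⟩ h
      change a ^ (Multiplicative.toAdd i).val * b ^ (Multiplicative.toAdd j).val = 1 at h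
      obtain ⟨hi, hj⟩ := hsep (Multiplicative.toAdd i).val (Multiplicative.toAdd j).val
        (by rw [zpow_natCast, zpow_natCast, h]; exact one_mem _)
      have hi' := Nat.eq_zero_of_dvd_of_lt (Int.natCast_dvd_natCast.1 hi) (ZMod.val_lt _)
      have hj' := Nat.eq_zero_of_dvd_of_lt (Int.natCast_dvd_natCast.1 hj) (ZMod.val_lt _)
      rw [ZMod.val_eq_zero] at hi' hj'
      exact Prod.ext hi' hj'
    · intro x
      obtain ⟨i, j, rfl⟩ := hgen x
      refine ⟨(Multiplicative.ofAdd (i : ZMod (p ^ m)), Multiplicative.ofAdd (j : ZMod (p ^ m))), ?_⟩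
      have key : ∀ (z : X) (k : ℤ), z ^ ((k : ZMod (p ^ m)).val) = z ^ k := by
        intro z k
        rw [← zpow_natCast, ZMod.val_intCast]
        exact (zpow_eq_zpow_emod' _ (hpow z)).symm
      show a ^ (i : ZMod (p ^ m)).val * b ^ (j : ZMod (p ^ m)).val = _
      rw [key, key]
  exfalso
  set e := a ^ p ^ m with he
  have heD : e ∈ D := hall a
  have hDeq : ∀ d ∈ D, ∃ i : ℤ, d = e ^ i := by
    intro d hd
    obtain ⟨i, rfl⟩ := mem_zpowers_iff.1 (hDN hd)
    obtain ⟨⟨l, rfl⟩, -⟩ := hsep i 0 (by rw [zpow_zero, mul_one]; exact hd)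
    exact ⟨l, by rw [he, ← zpow_natCast a, ← _root_.zpow_mul]⟩
  have hene : e ≠ 1 := fun h => hD0 ((Subgroup.eq_bot_iff_forall _).2 fun d hd => by
    obtain ⟨i, rfl⟩ := hDeq d hd
    rw [h, one_zpow])
  set N2 := zpowers (e ^ p) with hN2
  have hDp : ∀ d ∈ D, d ^ p ∈ N2 := fun d hd => by
    obtain ⟨i, rfl⟩ := hDeq d hd
    refine mem_zpowers_iff.2 ⟨i, ?_⟩
    rw [← zpow_natCast e, ← zpow_natCast (e ^ i), ← _root_.zpow_mul, ← _root_.zpow_mul, mul_comm]
  have hN2c : N2.Characteristic := char_of_map_mem fun φ x hx => by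
    obtain ⟨i, rfl⟩ := mem_zpowers_iff.1 hx
    rw [map_zpow, map_pow]
    exact zpow_mem (hDp _ ((characteristic_iff_map_eq.1
      (inferInstance : (commutator X).Characteristic) φ).le ⟨e, heD, rfl⟩)) i
  have : N2.Normal := inferInstance
  obtain ⟨k, hk⟩ := IsPGroup.iff_orderOf.1 hX e
  have hk0 : k ≠ 0 := by
    rintro rfl
    rw [pow_zero, orderOf_eq_one_iff] at hk
    exact hene hk
  have hcentral : ∀ d ∈ D, ∀ x : X, x * d * x⁻¹ * d⁻¹ ∈ N2 := by
    intro d hd x
    obtain ⟨i, rfl⟩ := hDeq d hd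
    obtain ⟨r, hr⟩ := hDeq (x * e * x⁻¹) ((inferInstance : (commutator X).Normal).conj_mem e heD x)
    obtain ⟨l, hl⟩ := hX x
    have hiter : ∀ t : ℕ, x ^ t * e * (x ^ t)⁻¹ = e ^ r ^ t := by
      intro t
      induction t with
      | zero => simp
      | succ t ih =>
        calc x ^ (t + 1) * e * (x ^ (t + 1))⁻¹ = x ^ t * (x * e * x⁻¹) * (x ^ t)⁻¹ := by
              rw [pow_succ]; group
          _ = (x ^ t * e * (x ^ t)⁻¹) ^ r := by rw [hr, conj_zpow]
          _ = _ := by rw [ih, ← _root_.zpow_mul, pow_succ]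
    have h2 := hiter (p ^ l)
    rw [hl, inv_one, one_mul, mul_one] at h2
    conv_lhs at h2 => rw [← zpow_one e]
    rw [← orderOf_dvd_sub_iff_zpow_eq_zpow, hk] at h2
    have h3 : ((r : ZMod p)) = 1 := by
      have h4 : (((1 : ℤ) - r ^ p ^ l : ℤ) : ZMod p) = 0 := by
        rw [ZMod.intCast_zmod_eq_zero_iff_dvd]
        exact dvd_trans (Int.natCast_dvd_natCast.2 (dvd_pow_self p hk0)) h2
      push_cast at h4
      rw [ZMod.pow_card_pow, sub_eq_zero] at h4
      exact h4.symm
    obtain ⟨w, hw⟩ := (ZMod.intCast_eq_intCast_iff_dvd_sub 1 r p).1 (by rw [h3, Int.cast_one])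
    refine mem_zpowers_iff.2 ⟨w * i, ?_⟩
    rw [← conj_zpow, hr, ← _root_.zpow_mul, ← zpow_neg, ← zpow_add, ← zpow_natCast,
      ← _root_.zpow_mul]
    congr 1
    linear_combination -(i : ℤ) * hw
  have hmulK : ∀ x y : X, (x * y) ^ p ^ m * (x ^ p ^ m * y ^ p ^ m)⁻¹ ∈ N2 := by
    intro x y
    rw [← QuotientGroup.eq_one_iff, QuotientGroup.mk_mul, QuotientGroup.mk_inv, mul_inv_eq_one,
      QuotientGroup.mk_mul, QuotientGroup.mk_pow, QuotientGroup.mk_pow, QuotientGroup.mk_pow,
      QuotientGroup.mk_mul]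
    have hcd : ⁅(y : X ⧸ N2), (x : X ⧸ N2)⁆ = ((⁅y, x⁆ : X) : X ⧸ N2) := by
      rw [← QuotientGroup.mk'_apply, ← QuotientGroup.mk'_apply, ← map_commutatorElement]; rfl
    have hdD : ⁅y, x⁆ ∈ D := commutator_mem_commutator (mem_top _) (mem_top _)
    rw [mul_pow_central ?_]
    · have hch : p ∣ (p ^ m).choose 2 :=
        hp.out.dvd_choose_pow (by norm_num) (fun h => by
          have : p ∣ 2 := h ▸ dvd_pow_self p (by omega : m ≠ 0)
          exact hp2 ((Nat.prime_dvd_prime_iff_eq hp.out Nat.prime_two).1 this))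
      obtain ⟨c, hc⟩ := hch
      rw [hc, pow_mul, hcd, show ((⁅y, x⁆ : X) : X ⧸ N2) ^ p = 1 from
        (QuotientGroup.eq_one_iff _).2 (hDp _ hdD), one_pow, mul_one]
    · rw [hcd, mem_center_iff]
      intro q
      obtain ⟨z, rfl⟩ := QuotientGroup.mk_surjective q
      rw [← QuotientGroup.mk_mul, ← QuotientGroup.mk_mul, QuotientGroup.eq]
      have h1 := hcentral _ (inv_mem hdD) z⁻¹
      rw [show (z * ⁅y, x⁆)⁻¹ * (⁅y, x⁆ * z) = (z⁻¹ * ⁅y, x⁆⁻¹ * z⁻¹⁻¹ * ⁅y, x⁆⁻¹⁻¹)⁻¹ by group]
      exact inv_mem h1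
  let K : Subgroup X :=
    { carrier := {x | x ^ p ^ m ∈ N2}
      one_mem' := by simp
      mul_mem' := fun {u v} hu hv => by
        show (u * v) ^ p ^ m ∈ N2
        have := mul_mem (hmulK u v) (mul_mem hu hv)
        rwa [inv_mul_cancel_right] at this
      inv_mem' := fun {u} hu => by
        show u⁻¹ ^ p ^ m ∈ N2
        rw [inv_pow]; exact inv_mem hu }
  have hKc : K.Characteristic := char_of_map_mem fun φ x hx => by
    show φ x ^ p ^ m ∈ N2
    rw [← map_pow]
    exact (characteristic_iff_map_eq.1 hN2c φ).le ⟨_, hx, rfl⟩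
  have haK : a ∉ K := fun h => by
    obtain ⟨i, hi⟩ := mem_zpowers_iff.1 (show e ∈ N2 from h)
    rw [← zpow_natCast e p, ← _root_.zpow_mul] at hi
    conv_rhs at hi => rw [← zpow_one e]
    rw [← orderOf_dvd_sub_iff_zpow_eq_zpow, hk] at hi
    have h2 : (p : ℤ) ∣ (p : ℤ) * i - 1 :=
      dvd_trans (Int.natCast_dvd_natCast.2 (dvd_pow_self p hk0)) hi
    have h3 : (p : ℤ) ∣ 1 := by simpa using dvd_sub (dvd_mul_right (p : ℤ) i) h2
    exact (Nat.prime_iff_prime_int.1 hp.out).not_dvd_one h3
  obtain ⟨l, hl⟩ := hDeq _ (hall b)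
  have hz : b * (a ^ l)⁻¹ ∈ K := by
    show (b * (a ^ l)⁻¹) ^ p ^ m ∈ N2
    have h2 : (a ^ l) ^ p ^ m = e ^ l := by
      rw [he, ← zpow_natCast, ← zpow_natCast a, ← _root_.zpow_mul, ← _root_.zpow_mul, mul_comm]
    have := hmulK b (a ^ l)⁻¹
    rwa [inv_pow, h2, hl, mul_inv_cancel, inv_one, mul_one] at this
  have hztop := hfull K hKc ⟨_, hz, fun h => hb ?_⟩
  · exact haK (hztop ▸ mem_top a)
  · rw [show b = b * (a ^ l)⁻¹ * a ^ l by group]
    exact mul_mem (mem_sup_right h) (mem_sup_left (zpow_mem (mem_zpowers a) l))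

/-- Chains with cyclic steps of subgroups with a property. -/
inductive Chain (Inv : Subgroup X → Prop) : Subgroup X → Prop
  | bot : Inv ⊥ → Chain Inv ⊥
  | step (K H : Subgroup X) (x : X) : Chain Inv K → Inv H → K ≤ H → H = K ⊔ zpowers x →
      Chain Inv H

omit hp in
theorem char_frattini_map (H : Subgroup X) (hH : H.Characteristic) :
    ((frattini H).map H.subtype).Characteristic := by
  refine char_of_map_mem fun φ x hx => ?_
  obtain ⟨h, hh, rfl⟩ := hx
  have hφH : ∀ y ∈ H, φ y ∈ H := fun y hy =>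
    (characteristic_iff_map_eq.1 hH φ).le ⟨y, hy, rfl⟩
  let ψ : H ≃* H := (φ.subgroupMap H).trans (MulEquiv.subgroupCongr (characteristic_iff_map_eq.1 hH φ))
  exact ⟨ψ h, (characteristic_iff_map_eq.1 (inferInstance : (frattini H).Characteristic) ψ).le
    ⟨h, hh, rfl⟩, rfl⟩

/-- A characteristic subgroup of index `p` in a characteristic subgroup starts a chain. -/
theorem chain_of_pair (hX : IsPGroup p X) (hm : Cfsg.IsMetacyclic X) :
    ∀ (N : ℕ) (H K : Subgroup X), Nat.card H = N → H.Characteristic → K.Characteristic → K ≤ H →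
      K.relIndex H = p → Chain (fun L => L.Characteristic) H := by
  intro N
  induction N using Nat.strong_induction_on with
  | _ N ih =>
    intro H K hN hH hK hKH hrel
    obtain ⟨x, hxH, hxK⟩ : ∃ x ∈ H, x ∉ K := by
      by_contra! h
      rw [Subgroup.relIndex_eq_one.2 h] at hrel
      exact hp.out.one_lt.ne hrel
    have hHx : H = K ⊔ zpowers x := by
      refine (sup_le hKH (zpowers_le.2 hxH)).antisymm' ?_
      have h1 := Subgroup.relIndex_mul_relIndex K (K ⊔ zpowers x) H le_sup_left
        (sup_le hKH (zpowers_le.2 hxH))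
      rw [hrel] at h1
      rcases (Nat.dvd_prime hp.out).1 (Dvd.intro _ h1) with h | h
      · exact absurd (Subgroup.relIndex_eq_one.1 h (mem_sup_right (mem_zpowers x))) hxK
      · rw [h] at h1
        exact Subgroup.relIndex_eq_one.1 (Nat.eq_of_mul_eq_mul_left hp.out.pos (by rw [h1, mul_one]))
    have hKlt : Nat.card K < N := by
      rw [← hN, ← Subgroup.relIndex_bot_left, ← Subgroup.relIndex_bot_left,
        ← Subgroup.relIndex_mul_relIndex ⊥ K H bot_le hKH, hrel]
      exact lt_mul_of_one_lt_right (by rw [Subgroup.relIndex_bot_left]; exact Nat.card_pos) hp.out.one_lt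
    refine Chain.step K H x ?_ hH hKH hHx
    by_cases hK1 : K = ⊥
    · subst hK1; exact Chain.bot inferInstance
    haveI : Nontrivial K := (Subgroup.nontrivial_iff_ne_bot K).2 hK1
    have hHne : H ≠ ⊥ := fun h => hK1 (le_bot_iff.1 (h ▸ hKH))
    set Φ := (frattini H).map H.subtype with hΦ
    have hΦK : Φ ≤ K := by
      rintro _ ⟨z, hz, rfl⟩
      have hn : (K.subgroupOf H).index = p := hrel
      have hco : IsCoatom (K.subgroupOf H) := by
        refine ⟨fun h => by rw [h, Subgroup.index_top] at hn; exact hp.out.one_lt.ne hn, fun L hL => ?_⟩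
        rcases (Nat.dvd_prime hp.out).1 (hn ▸ Subgroup.index_dvd_of_le hL.le) with h | h
        · exact Subgroup.index_eq_one.1 h
        · exact absurd (Subgroup.index_strictAnti hL) (by omega)
      exact Subgroup.mem_subgroupOf.1 (frattini_le_coatom hco hz)
    have hHg := MetacyclicTwo.exists_gens (MetacyclicTwo.subgroup_metacyclic hm H)
    obtain ⟨a, b, -, hgen, -⟩ := hHg
    have hle2 := index_frattini_le (hX.to_subgroup H) hgen
    have hrelΦ : Φ.relIndex H = (frattini H).index := by
      have h1 : Φ.subgroupOf H = frattini H := Subgroup.comap_map_eq_self_of_injective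
        H.subtype_injective _
      show (Φ.subgroupOf H).index = _
      rw [h1]
    have hmul := Subgroup.relIndex_mul_relIndex Φ K H hΦK hKH
    rw [hrel, hrelΦ] at hmul
    obtain ⟨j, hj⟩ := (hX.to_subgroup H).index (frattini H)
    by_cases heq : Φ = K
    · -- `H` is cyclic
      have hcH : IsCyclic H := isCyclic_of_index (p := p)
        (by rw [← hrelΦ, heq, hrel])
      have hcK : IsCyclic K :=
        isCyclic_of_injective (Subgroup.inclusion hKH) (Subgroup.inclusion_injective hKH)
      refine ih _ hKlt K ((frattini K).map K.subtype) rfl hK (char_frattini_map K hK)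
        (Subgroup.map_subtype_le _) ?_
      have h1 : ((frattini K).map K.subtype).subgroupOf K = frattini K :=
        Subgroup.comap_map_eq_self_of_injective K.subtype_injective _
      show (((frattini K).map K.subtype).subgroupOf K).index = p
      rw [h1]
      obtain ⟨g, hg⟩ := isCyclic_iff_exists_zpowers_eq_top.1 hcK
      have hle := index_frattini_le (p := p) (hX.to_subgroup K) (a := g) (b := 1) (fun z => by
        obtain ⟨i, hi⟩ := mem_zpowers_iff.1 (hg ▸ mem_top z : z ∈ zpowers g)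
        exact ⟨i, 0, by rw [hi, one_zpow, mul_one]⟩)
      have hexp : Nat.card (K ⧸ frattini K) ∣ p := by
        have : IsCyclic (K ⧸ frattini K) := isCyclic_of_surjective (QuotientGroup.mk' _)
          (QuotientGroup.mk'_surjective _)
        rw [← IsCyclic.exponent_eq_card]
        refine Monoid.exponent_dvd_of_forall_pow_eq_one fun q => ?_
        obtain ⟨z, rfl⟩ := QuotientGroup.mk_surjective q
        rw [← QuotientGroup.mk_pow, QuotientGroup.eq_one_iff]
        exact pow_mem_frattini (hX.to_subgroup K) z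
      rcases (Nat.dvd_prime hp.out).1 hexp with h | h
      · exfalso
        have htop : frattini K = ⊤ := Subgroup.index_eq_one.1 (by rw [index_eq_card, h])
        have := frattini_nongenerating (G := K) (K := ⊥) (by rw [htop, sup_top_eq])
        exact bot_ne_top this
      · rw [index_eq_card, h]
    · refine ih _ hKlt K Φ rfl hK (char_frattini_map H hH) hΦK ?_
      have hne : Φ.relIndex K ≠ 1 := fun h => heq (le_antisymm hΦK (Subgroup.relIndex_eq_one.1 h))
      have hdvd : Φ.relIndex K ∣ p := by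
        rw [hj] at hmul hle2
        rw [Nat.pow_le_pow_iff_right hp.out.one_lt] at hle2
        interval_cases j
        · exfalso
          rw [pow_zero] at hmul
          exact hp.out.one_lt.ne (Nat.eq_one_of_mul_eq_one_left hmul).symm
        · rw [pow_one] at hmul
          exact absurd (Nat.eq_of_mul_eq_mul_right hp.out.pos (by rw [hmul, one_mul])) hne
        · rw [pow_two] at hmul
          exact dvd_of_eq (Nat.eq_of_mul_eq_mul_right hp.out.pos hmul)
      exact ((Nat.dvd_prime hp.out).1 hdvd).resolve_left hne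

/-- A chain gives an indexed family. -/
theorem Chain.exists_fun {Inv : Subgroup X → Prop} {H : Subgroup X} (h : Chain Inv H) :
    ∃ (m : ℕ) (c : Fin (m + 1) → Subgroup X), c 0 = ⊥ ∧ c (Fin.last m) = H ∧
      (∀ i, Inv (c i)) ∧ ∀ i : Fin m, c i.castSucc ≤ c i.succ ∧
        ∃ x : X, c i.succ = c i.castSucc ⊔ zpowers x := by
  induction h with
  | bot h0 => exact ⟨0, fun _ => ⊥, rfl, rfl, fun _ => h0, fun i => i.elim0⟩
  | step K H x _ hH hKH hHx ih =>
    obtain ⟨m, c, h0, hl, hc, hs⟩ := ih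
    refine ⟨m + 1, Fin.snoc c H, ?_, Fin.snoc_last (α := fun _ => Subgroup X) _ _, fun i => ?_, fun i => ?_⟩
    · rw [show (0 : Fin (m + 1 + 1)) = (0 : Fin (m + 1)).castSucc from rfl, Fin.snoc_castSucc, h0]
    · induction i using Fin.lastCases with
      | last => rw [Fin.snoc_last]; exact hH
      | cast i => rw [Fin.snoc_castSucc]; exact hc i
    · induction i using Fin.lastCases with
      | last =>
        rw [Fin.snoc_castSucc, Fin.succ_last, Fin.snoc_last, hl]
        exact ⟨hKH, x, hHx⟩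
      | cast i =>
        rw [Fin.snoc_castSucc, Fin.succ_castSucc, Fin.snoc_castSucc]
        exact hs i

theorem exists_chain (hp2 : p ≠ 2) (hX : IsPGroup p X) (hm : Cfsg.IsMetacyclic X)
    (hh : ¬ ∃ n : ℕ, 0 < n ∧
      Nonempty (X ≃* Multiplicative (ZMod (p ^ n)) × Multiplicative (ZMod (p ^ n)))) :
    Chain (fun L : Subgroup X => L.Characteristic) ⊤ := by
  by_cases h1 : Nontrivial X
  · obtain ⟨M, hM, hMi⟩ := (exists_char_index hp2 hX hm h1).resolve_right hh
    exact chain_of_pair hX hm _ ⊤ M rfl inferInstance hM le_top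
      (by rw [Subgroup.relIndex_top_right, hMi])
  · rw [not_nontrivial_iff_subsingleton] at h1
    rw [Subsingleton.elim (⊤ : Subgroup X) ⊥]
    exact Chain.bot inferInstance

end Cfsg.Agent.Lib.MetacyclicChains.CharIndex
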