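import Cfsg.Agent.Lib.FusionSystem.Realized

/-!
A system realized by a finite group over a Sylow subgroup has no chain of strongly closed subgroups
with cyclic steps when some closed subgroup would have to be too large.
-/

set_option autoImplicit false
set_option maxHeartbeats 400000
set_option linter.style.haveILetI false

namespace Cfsg.Agent.Lib.MetacyclicChains

open Cfsg Subgroup

universe u v

/-- Every saturated system over `S` has a chain of strongly closed subgroups with cyclic steps. -/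
def AllHaveChains {Ω : Type u} [Group Ω] (S : Subgroup Ω) (p : ℕ) : Prop :=
  ∀ F : Cfsg.FusionSystem S, F.IsSaturated p → (∃ (m : ℕ) (c : Fin (m + 1) → Subgroup Ω),
    c 0 = ⊥ ∧ c (Fin.last m) = S ∧ (∀ i : Fin (m + 1), F.StronglyClosed (c i)) ∧
    ∀ i : Fin m, c i.castSucc ≤ c i.succ ∧
      ∃ x ∈ S, c i.succ = c i.castSucc ⊔ Subgroup.zpowers x)

/-- `D` contains the elements of `X` that are conjugate in `G` to an element of `D`. -/
def Closed {X : Type*} [Group X] {G : Type*} [Group G] (ι : X →* G) (D : Subgroup X) : Prop :=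
  ∀ a b : X, a ∈ D → (∃ g : G, ι b = g * ι a * g⁻¹) → b ∈ D

section
variable {Ω : Type u} [Group Ω] {S : Subgroup Ω} {G : Type v} [Group G]

/-- The system that `G` induces on `S` through `ι`. -/
noncomputable def pullback (ι : S →* G) (hι : Function.Injective ι) : Cfsg.FusionSystem S where
  Hom P := {φ | ∃ (hP : P ≤ S) (hφ : ∀ x : P, φ x ∈ S),
    ∃ g : G, ∀ x : P, ι ⟨φ x, hφ x⟩ = g * ι ⟨x, hP x.2⟩ * g⁻¹}
  le_of_mem h := by obtain ⟨hP, hφ, -⟩ := h; exact ⟨hP, hφ⟩
  injective_of_mem := by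
    rintro P φ ⟨hP, hφ, g, hg⟩ a b hab
    have h : g * ι ⟨a, hP a.2⟩ * g⁻¹ = g * ι ⟨b, hP b.2⟩ * g⁻¹ := by
      rw [← hg, ← hg]
      exact congrArg ι (Subtype.ext hab)
    have h2 := hι (mul_left_cancel (mul_right_cancel h))
    exact Subtype.ext (congrArg (fun z : S => (z : Ω)) h2)
  conj_mem := by
    intro P g hP hg
    refine ⟨hP, fun x => S.mul_mem (S.mul_mem hg (hP x.2)) (S.inv_mem hg), ι ⟨g, hg⟩, fun x => ?_⟩
    rw [← map_inv, ← map_mul, ← map_mul]
    rfl
  comp_mem := by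
    rintro P Q φ ψ ⟨hP, hφS, g, hg⟩ ⟨hQ, hψS, k, hk⟩ h
    refine ⟨hP, fun x => hψS _, k * g, fun x => ?_⟩
    show ι ⟨ψ (φ.codRestrict Q h x), hψS _⟩ = _
    rw [hk]
    show k * ι ⟨φ x, _⟩ * k⁻¹ = _
    rw [hg, mul_inv_rev]
    simp only [mul_assoc]
  inv_mem := by
    rintro P φ ⟨hP, hφS, g, hg⟩
    have hinj : Function.Injective φ := by
      intro a b hab
      have h : g * ι ⟨a, hP a.2⟩ * g⁻¹ = g * ι ⟨b, hP b.2⟩ * g⁻¹ := by
        rw [← hg, ← hg]; exact congrArg ι (Subtype.ext hab)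
      have h2 := hι (mul_left_cancel (mul_right_cancel h))
      exact Subtype.ext (congrArg (fun z : S => (z : Ω)) h2)
    let e : P ≃* φ.range := MonoidHom.ofInjective hinj
    refine ⟨P.subtype.comp e.symm.toMonoidHom, ⟨?_, fun y => hP (e.symm y).2, g⁻¹, fun y => ?_⟩,
      fun x => ?_⟩
    · rintro _ ⟨x, rfl⟩
      exact hφS x
    · obtain ⟨x, rfl⟩ := e.surjective y
      have hy : (⟨((e x : φ.range) : Ω), hφS x⟩ : S) = ⟨φ x, hφS x⟩ := rfl
      have hx : (⟨((e.symm (e x) : P) : Ω), hP (e.symm (e x)).2⟩ : S) = ⟨x, hP x.2⟩ :=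
        Subtype.ext (by show ((e.symm (e x) : P) : Ω) = x; rw [e.symm_apply_apply])
      show ι ⟨((e.symm (e x) : P) : Ω), _⟩ = g⁻¹ * ι ⟨((e x : φ.range) : Ω), _⟩ * g⁻¹⁻¹
      rw [hx, hy, hg]
      group
    · show ((e.symm (e x) : P) : Ω) = x
      rw [MulEquiv.symm_apply_apply]

theorem realized (ι : S →* G) (hι : Function.Injective ι) : (pullback ι hι).IsRealizedBy ι := by
  refine ⟨hι, fun P hP φ hφ => ⟨?_, ?_⟩⟩
  · rintro ⟨_, _, g, hg⟩
    exact ⟨g, hg⟩
  · rintro ⟨g, hg⟩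
    exact ⟨hP, hφ, g, hg⟩

/-- A realized system obstructs chains. -/
theorem obstruction [Finite S] {p : ℕ} [Fact p.Prime] [Finite G] (ι : S →* G)
    (hι : Function.Injective ι) (hindex : ¬ p ∣ ι.range.index) (hS : IsPGroup p S)
    (Z : Subgroup S) (hZ : Z ≠ ⊤)
    (h : ∀ (D : Subgroup S) (x : S), Closed ι D → ¬ D ≤ Z → x ∈ D → D ≤ Z ⊔ zpowers x → False) :
    ¬ AllHaveChains S p := by
  intro hall
  have hR : IsPGroup p ι.range := hS.of_surjective ι.rangeRestrict ι.rangeRestrict_surjective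
  have hsat : (pullback ι hι).IsSaturated p :=
    Cfsg.Agent.Lib.FS.isSaturated_of_realized (realized ι hι) (hR.toSylow hindex) rfl
  obtain ⟨m, c, h0, hl, hc, hstep⟩ := hall _ hsat
  obtain ⟨i, hi, hi'⟩ : ∃ i : Fin m, (c i.castSucc).subgroupOf S ≤ Z ∧
      ¬ (c i.succ).subgroupOf S ≤ Z := by
    by_contra hno
    push Not at hno
    have hle : ∀ i : Fin (m + 1), (c i).subgroupOf S ≤ Z := by
      intro i
      induction i using Fin.induction with
      | zero => rw [h0, Subgroup.bot_subgroupOf]; exact bot_le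
      | succ i ih => exact hno i ih
    have := hle (Fin.last m)
    rw [hl, Subgroup.subgroupOf_self] at this
    exact hZ (top_le_iff.1 this)
  obtain ⟨hcc, x, hxS, hx⟩ := hstep i
  have hcS : c i.succ ≤ S := (hc i.succ).1
  refine h ((c i.succ).subgroupOf S) ⟨x, hxS⟩ ?_ hi' ?_ ?_
  · rintro a b ha ⟨g, hg⟩
    have hP : zpowers (a : Ω) ≤ S := zpowers_le.2 a.2
    have hmem : ∀ z : zpowers (a : Ω),
        g * ι ⟨z, hP z.2⟩ * g⁻¹ ∈ ι.range := by
      rintro ⟨z, hz⟩
      obtain ⟨j, rfl⟩ := mem_zpowers_iff.1 hz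
      refine ⟨b ^ j, ?_⟩
      rw [map_zpow, hg, conj_zpow, ← map_zpow]
      rfl
    let f : zpowers (a : Ω) →* ι.range :=
      MonoidHom.codRestrict ((MulAut.conj g).toMonoidHom.comp (ι.comp (Subgroup.inclusion hP)))
        ι.range hmem
    let φ : zpowers (a : Ω) →* Ω :=
      S.subtype.comp ((MonoidHom.ofInjective hι).symm.toMonoidHom.comp f)
    have hφ : φ ∈ (pullback ι hι).Hom (zpowers (a : Ω)) := by
      refine ⟨hP, fun z => SetLike.coe_mem _, g, fun z => ?_⟩
      exact congrArg Subtype.val ((MonoidHom.ofInjective hι).apply_symm_apply (f z))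
    have hval : φ ⟨a, mem_zpowers _⟩ = (b : Ω) := by
      have he : (MonoidHom.ofInjective hι).symm (f ⟨a, mem_zpowers _⟩) = b := by
        rw [MulEquiv.symm_apply_eq]
        exact Subtype.ext hg.symm
      exact congrArg Subtype.val he
    rw [Subgroup.mem_subgroupOf] at ha ⊢
    rw [← hval]
    exact (hc i.succ).2 _ (zpowers_le.2 ha) φ hφ ⟨a, mem_zpowers _⟩
  · rw [Subgroup.mem_subgroupOf, hx]
    exact mem_sup_right (mem_zpowers x)
  · intro a ha
    have hle : c i.succ ≤ (Z ⊔ zpowers (⟨x, hxS⟩ : S)).map S.subtype := by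
      rw [hx]
      refine sup_le (fun w hw => ?_) (zpowers_le.2 ⟨⟨x, hxS⟩, mem_sup_right (mem_zpowers _), rfl⟩)
      have hwS : w ∈ S := hcS (hcc hw)
      exact ⟨⟨w, hwS⟩, mem_sup_left (hi (Subgroup.mem_subgroupOf.2 hw)), rfl⟩
    obtain ⟨a', ha', he⟩ := hle (Subgroup.mem_subgroupOf.1 ha)
    rwa [← Subtype.ext he]

end

end Cfsg.Agent.Lib.MetacyclicChains
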