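import Cfsg.Agent.Lib.MetacyclicChains.CharIndex
import Cfsg.Agent.Lib.MetacyclicChains.Pullback
import Cfsg.Agent.Lib.TwoGroups.MetacyclicFusion
import Cfsg.Agent.Lib.FusionP3.Metacyclic

/-!
Chains of strongly closed subgroups with cyclic steps over metacyclic groups outside the exceptional
families.
-/

set_option autoImplicit false
set_option maxHeartbeats 400000
set_option linter.style.haveILetI false
set_option linter.unusedSectionVars false

namespace Cfsg.Agent.Lib.MetacyclicChains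

open Cfsg Subgroup Cfsg.Agent.Lib.FS Cfsg.Agent.Lib.MetacyclicChains.CharIndex
open Cfsg.Agent.Lib.TwoGroups

universe u

variable {Ω : Type u} [Group Ω] {S : Subgroup Ω} [Finite S] {p : ℕ} [Fact p.Prime]
  {F : Cfsg.FusionSystem S}

/-- A chain inside `S` gives a chain in the ambient group. -/
theorem exists_of_chain (h : Chain (fun L : Subgroup S => F.StronglyClosed (L.map S.subtype)) ⊤) :
    ∃ (m : ℕ) (c : Fin (m + 1) → Subgroup Ω), c 0 = ⊥ ∧ c (Fin.last m) = S ∧
      (∀ i : Fin (m + 1), F.StronglyClosed (c i)) ∧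
      ∀ i : Fin m, c i.castSucc ≤ c i.succ ∧
        ∃ x ∈ S, c i.succ = c i.castSucc ⊔ Subgroup.zpowers x := by
  obtain ⟨m, c, h0, hl, hc, hs⟩ := h.exists_fun
  refine ⟨m, fun i => (c i).map S.subtype, ?_, ?_, hc, fun i => ⟨map_mono (hs i).1, ?_⟩⟩
  · simp only [h0, Subgroup.map_bot]
  · simp only [hl, ← MonoidHom.range_eq_map, Subgroup.range_subtype]
  · obtain ⟨x, hx⟩ := (hs i).2
    exact ⟨x, x.2, by simp only [hx, Subgroup.map_sup, MonoidHom.map_zpowers]; rfl⟩

theorem stronglyClosed_top : F.StronglyClosed ((⊤ : Subgroup S).map S.subtype) := by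
  rw [← MonoidHom.range_eq_map, Subgroup.range_subtype]
  exact ⟨le_rfl, fun R _ φ hφ r => apply_mem hφ r⟩

theorem stronglyClosed_bot' : F.StronglyClosed ((⊥ : Subgroup S).map S.subtype) := by
  rw [Subgroup.map_bot]
  exact stronglyClosed_bot F

theorem chain_of_cyclic (hc : IsCyclic S) :
    Chain (fun L : Subgroup S => F.StronglyClosed (L.map S.subtype)) ⊤ := by
  obtain ⟨g, hg⟩ := isCyclic_iff_exists_zpowers_eq_top.1 hc
  exact Chain.step ⊥ ⊤ g (Chain.bot stronglyClosed_bot') stronglyClosed_top bot_le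
    (by rw [bot_sup_eq, hg])

/-- In a system with `S` normal characteristic subgroups are strongly closed. -/
theorem stronglyClosed_of_characteristic (hn : F.IsNormal S) {L : Subgroup S}
    (hL : L.Characteristic) : F.StronglyClosed (L.map S.subtype) := by
  refine ⟨Subgroup.map_subtype_le L, fun R hR φ hφ r => ?_⟩
  have hRS : R ≤ S := hR.trans (Subgroup.map_subtype_le L)
  obtain ⟨ψ, hψ, hψR, -⟩ := hn.2 R φ hφ
  let f : S →* S :=
    MonoidHom.mk' (fun s => ⟨ψ (Subgroup.inclusion le_sup_right s), apply_mem hψ _⟩)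
      fun a b => Subtype.ext (by simp [map_mul])
  have hf : Function.Injective f := fun a b h => Subgroup.inclusion_injective _
    (F.injective_of_mem hψ (congrArg Subtype.val h))
  let β : MulAut S := MulEquiv.ofBijective f ⟨hf, Finite.surjective_of_injective hf⟩
  obtain ⟨s, hs, hsr⟩ := hR r.2
  refine ⟨β s, (characteristic_iff_map_eq.1 hL β).le ⟨s, hs, rfl⟩, ?_⟩
  rw [← hψR r]
  exact congrArg ψ (Subtype.ext hsr)

theorem chain_mono {X : Type*} [Group X] {P Q : Subgroup X → Prop} (h : ∀ L, P L → Q L)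
    {H : Subgroup X} (hc : Chain P H) : Chain Q H := by
  induction hc with
  | bot h0 => exact Chain.bot (h _ h0)
  | step K H x _ hH hKH hHx ih => exact Chain.step K H x ih (h _ hH) hKH hHx

theorem exists_chain_odd (hp2 : p ≠ 2) (hS : IsPGroup p S) (hm : Cfsg.IsMetacyclic ↥S)
    (hh : ¬ ∃ n : ℕ, 0 < n ∧
      Nonempty (↥S ≃* Multiplicative (ZMod (p ^ n)) × Multiplicative (ZMod (p ^ n))))
    (hF : F.IsSaturated p) : Chain (fun L : Subgroup S => F.StronglyClosed (L.map S.subtype)) ⊤ :=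
  chain_mono (fun _ hL => stronglyClosed_of_characteristic
    (FusionP3.Metacyclic.isNormal_of_metacyclic hS hF hp2 (P := S) ⟨le_rfl, fun _ _ _ hφ r => apply_mem hφ r⟩ hm) hL)
    (CharIndex.exists_chain hp2 hS hm hh)

theorem isCyclic_of_dihedral_one {X : Type*} [Group X] (e : X ≃* DihedralGroup 1) : IsCyclic X :=
  isCyclic_of_prime_card (p := 2)
    (by rw [Nat.card_congr e.toEquiv, DihedralGroup.nat_card, mul_one])

theorem isCyclic_of_quaternion_one {X : Type*} [Group X] [Finite X] (e : X ≃* QuaternionGroup 1) :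
    IsCyclic X := by
  refine isCyclic_of_orderOf_eq_card (e.symm (.xa 0)) ?_
  rw [MulEquiv.orderOf_eq, QuaternionGroup.orderOf_xa, Nat.card_congr e.toEquiv,
    Nat.card_eq_fintype_card, QuaternionGroup.card]

theorem exists_chain_two (hS : IsPGroup 2 S) (hm : Cfsg.IsMetacyclic ↥S)
    (hh : ¬ ∃ n : ℕ, 0 < n ∧
      Nonempty (↥S ≃* Multiplicative (ZMod (2 ^ n)) × Multiplicative (ZMod (2 ^ n))))
    (hd : ¬ ∃ n : ℕ, 2 ≤ n ∧ Nonempty (↥S ≃* DihedralGroup n))
    (hsd : ¬ Cfsg.IsQuasiDihedral ↥S)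
    (hq : ¬ ∃ n : ℕ, 2 ≤ n ∧ Nonempty (↥S ≃* QuaternionGroup n))
    (hF : F.IsSaturated 2) : Chain (fun L : Subgroup S => F.StronglyClosed (L.map S.subtype)) ⊤ := by
  by_cases hc : IsCyclic S
  · exact chain_of_cyclic hc
  have hd' : ¬ ∃ m : ℕ, Nonempty (↥S ≃* DihedralGroup m) := by
    rintro ⟨m, ⟨e⟩⟩
    by_cases h2 : 2 ≤ m
    · exact hd ⟨m, h2, ⟨e⟩⟩
    interval_cases m
    · have h := Nat.card_congr e.toEquiv
      rw [DihedralGroup.nat_card, mul_zero] at h
      exact Nat.card_pos.ne' h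
    · exact hc (isCyclic_of_dihedral_one e)
  have hq' : ¬ ∃ m : ℕ, Nonempty (↥S ≃* QuaternionGroup m) := by
    rintro ⟨m, ⟨e⟩⟩
    by_cases h2 : 2 ≤ m
    · exact hq ⟨m, h2, ⟨e⟩⟩
    interval_cases m
    · haveI : Finite (QuaternionGroup 0) := Finite.of_equiv S e.toEquiv
      haveI : Finite ℤ :=
        Finite.of_injective (fun i => (QuaternionGroup.a i : QuaternionGroup 0))
          fun i j h => QuaternionGroup.a.inj h
      exact not_finite ℤ
    · exact hc (isCyclic_of_quaternion_one e)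
  have hinner := MetacyclicFusion.eq_inner hS hF hm
    (fun n hn => not_nonempty_iff.1 fun h => hh ⟨n, hn, h⟩) hd' hq' hsd
  obtain ⟨N, hN, hNc, hQc⟩ := hm
  have hNcl : F.StronglyClosed (N.map S.subtype) := by
    refine ⟨Subgroup.map_subtype_le N, fun R hR φ hφ r => ?_⟩
    rw [hinner] at hφ
    obtain ⟨-, g, hg, hgφ⟩ := hφ
    obtain ⟨s, hs, hsr⟩ := hR r.2
    exact ⟨⟨g, hg⟩ * s * ⟨g, hg⟩⁻¹, hN.conj_mem s hs _, by rw [hgφ, ← hsr]; rfl⟩
  obtain ⟨n₀, hn₀⟩ := hNc.exists_generator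
  obtain ⟨q, hq₀⟩ := hQc.exists_generator
  obtain ⟨g, rfl⟩ := QuotientGroup.mk_surjective q
  refine Chain.step N ⊤ g (Chain.step ⊥ N (n₀ : S) (Chain.bot stronglyClosed_bot') hNcl bot_le ?_)
    stronglyClosed_top le_top ?_
  · rw [bot_sup_eq]
    refine le_antisymm (fun y hy => ?_) (zpowers_le.2 n₀.2)
    obtain ⟨i, hi⟩ := mem_zpowers_iff.1 (hn₀ ⟨y, hy⟩)
    exact ⟨i, congrArg Subtype.val hi⟩
  · refine (eq_top_iff.2 fun y _ => ?_).symm
    obtain ⟨i, hi⟩ := mem_zpowers_iff.1 (hq₀ (QuotientGroup.mk y))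
    rw [← QuotientGroup.mk_zpow, QuotientGroup.eq] at hi
    rw [show y = g ^ i * ((g ^ i)⁻¹ * y) by group]
    exact mul_mem (mem_sup_right (zpow_mem (mem_zpowers g) i)) (mem_sup_left hi)

end Cfsg.Agent.Lib.MetacyclicChains
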