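import Cfsg.Agent.Lib.MetacyclicChains.Pullback
import Cfsg.Agent.Lib.Linear.Order
import Cfsg.Agent.Lib.Linear.SL2
import Cfsg.Agent.Lib.PSLTwo.Sylow
import Cfsg.Agent.Lib.TwoGroups.QuasiDihedral

/-!
The primes used for dihedral, semidihedral and quaternion Sylow subgroups, and facts about two by
two matrices over their fields.
-/

set_option autoImplicit false
set_option maxHeartbeats 400000

namespace Cfsg.Agent.Lib.MetacyclicChains

open Matrix
open Cfsg.Agent.Lib.PSLTwo.Sylow (negOne slTr)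

/-- A prime with `p + 1` exactly divisible by `2 ^ a` and `p - 1` exactly divisible by `2`. -/
theorem exists_prime_two_part {a : ℕ} (ha : 2 ≤ a) :
    ∃ p c d : ℕ, p.Prime ∧ Odd c ∧ Odd d ∧ p + 1 = 2 ^ a * c ∧ p - 1 = 2 * d ∧ p % 4 = 3 := by
  obtain ⟨b, rfl⟩ : ∃ b, a = b + 2 := ⟨a - 2, by omega⟩
  have h4 : 2 ^ (b + 2) = 4 * 2 ^ b := by ring
  have hb : 0 < 2 ^ b := by positivity
  have hodd : Odd (2 ^ (b + 2) - 1) := ⟨2 * 2 ^ b - 1, by omega⟩
  obtain ⟨p, -, hp, hmod⟩ := Nat.forall_exists_prime_gt_and_modEq 0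
    (q := 2 ^ (b + 3)) (a := 2 ^ (b + 2) - 1) (by positivity)
    (Nat.Coprime.pow_right _ hodd.coprime_two_right)
  have h8 : 2 ^ (b + 3) = 2 * (4 * 2 ^ b) := by ring
  have hq := Nat.div_add_mod p (2 ^ (b + 3))
  have hr : p % 2 ^ (b + 3) = 2 ^ (b + 2) - 1 := by
    rw [hmod, Nat.mod_eq_of_lt]; omega
  rw [hr, h8, h4] at hq
  set q := p / (2 * (4 * 2 ^ b)) with hq'
  have e1 : 2 * (4 * 2 ^ b) * q = 8 * (2 ^ b * q) := by ring
  refine ⟨p, 2 * q + 1, 4 * (2 ^ b * q) + (2 * 2 ^ b - 1), hp, ⟨q, rfl⟩,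
    ⟨2 * (2 ^ b * q) + (2 ^ b - 1), by omega⟩, ?_, by omega, by omega⟩
  rw [h4, show 4 * 2 ^ b * (2 * q + 1) = 8 * (2 ^ b * q) + 4 * 2 ^ b by ring]
  omega

/-- The order of a Sylow 2-subgroup. -/
theorem sylow_card {G : Type*} [Group G] [Finite G] (P : Sylow 2 G) {m c : ℕ}
    (h : Nat.card G = 2 ^ m * c) (hc : Odd c) : Nat.card P = 2 ^ m := by
  refine Nat.dvd_antisymm ?_ (P.pow_dvd_card_of_pow_dvd_card (h ▸ dvd_mul_right _ _))
  obtain ⟨j, hj⟩ := IsPGroup.iff_card.1 P.isPGroup'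
  have hd : Nat.card P ∣ 2 ^ m * c := h ▸ Subgroup.card_subgroup_dvd_card _
  rw [hj] at hd ⊢
  exact (Nat.Coprime.pow_left j (Nat.prime_two.coprime_iff_not_dvd.2
    (fun h2 => Nat.not_even_iff_odd.2 hc (even_iff_two_dvd.2 h2)))).dvd_of_dvd_mul_right hd

section
variable {p a c d : ℕ} [Fact p.Prime]

theorem card_SL (hc : Odd c) (hd : Odd d) (h1 : p + 1 = 2 ^ a * c) (h2 : p - 1 = 2 * d)
    (hp : Odd p) : ∃ e, Odd e ∧
      Nat.card (SpecialLinearGroup (Fin 2) (ZMod p)) = 2 ^ (a + 1) * e := by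
  refine ⟨p * d * c, (hp.mul hd).mul hc, ?_⟩
  rw [Linear.card_SL_two, ZMod.card, h1, h2]; ring

theorem card_GL (hc : Odd c) (hd : Odd d) (h1 : p + 1 = 2 ^ a * c) (h2 : p - 1 = 2 * d)
    (hp : Odd p) : ∃ e, Odd e ∧ Nat.card (GL (Fin 2) (ZMod p)) = 2 ^ (a + 2) * e := by
  refine ⟨p * d * d * c, ((hp.mul hd).mul hd).mul hc, ?_⟩
  rw [Linear.card_GL_two, ZMod.card, h1, h2]; ring

theorem card_PSL (hc : Odd c) (hd : Odd d) (h1 : p + 1 = 2 ^ a * c) (h2 : p - 1 = 2 * d)
    (hp : Odd p) : ∃ e, Odd e ∧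
      Nat.card (ProjectiveSpecialLinearGroup (Fin 2) (ZMod p)) = 2 ^ a * e := by
  refine ⟨p * d * c, (hp.mul hd).mul hc, ?_⟩
  have h := Linear.two_mul_card_PSL_two_of_odd (F := ZMod p) (by rwa [ZMod.card])
  rw [ZMod.card, h1, h2] at h
  linarith

end

section
variable {p : ℕ} [hp : Fact p.Prime]

local notation "SL" => SpecialLinearGroup (Fin 2) (ZMod p)
local notation "M2" => Matrix (Fin 2) (Fin 2) (ZMod p)

theorem two_ne_zero_zmod (hp2 : Odd p) : (2 : ZMod p) ≠ 0 :=
  PSLTwo.Sylow.two_ne_zero_of_odd (F := ZMod p) (by rw [ZMod.card]; exact Nat.odd_iff.1 hp2)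

theorem conj_of_sq (hp2 : Odd p) {u v : SL} (hu : u * u = negOne) (hv : v * v = negOne) :
    ∃ h : SL, h * u * h⁻¹ = v := by
  have h2 := two_ne_zero_zmod (p := p) hp2
  have key : ∀ w : SL, w * w = negOne → slTr w = 0 := by
    intro w hw
    have h := Linear.sl2_mul_self w
    rw [show (w : M2) * (w : M2) = -1 by
      rw [show (w : M2) * (w : M2) = ((w * w : SL) : M2) from rfl, hw]
      ext i j; fin_cases i <;> fin_cases j <;> simp] at h
    by_contra ht
    have ht' : Matrix.trace (w : M2) • (w : M2) = 0 := by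
      have := congrArg (· + 1) h
      simpa using this.symm
    have hd := congrArg Matrix.det ht'
    rw [Matrix.det_smul, w.2, mul_one, Matrix.det_zero, Fintype.card_fin] at hd
    exact ht (by simpa [slTr, Matrix.trace_fin_two] using hd)
  exact PSLTwo.Sylow.exists_conj (by rw [ZMod.card]; exact Nat.odd_iff.1 hp2) h2
    (by
      rw [key u hu]
      intro h4
      refine mul_ne_zero h2 h2 ?_
      linear_combination -h4)
    (by rw [key u hu, key v hv])

/-- A group containing the special linear group in which every fourth root of unity squares into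
`{1, -1}` and all square roots of `-1` are conjugate. -/
structure LinModel (G : Type*) [Group G] (emb : SL →* G) : Prop where
  sq : ∀ w : G, w ^ 4 = 1 → w * w ≠ 1 → w * w = emb negOne
  root : ∀ u : G, u * u = emb negOne → ∃ u₀ : SL, emb u₀ = u ∧ u₀ * u₀ = negOne
  central : ∀ g : G, emb negOne * g = g * emb negOne

theorem LinModel.conj {G : Type*} [Group G] {emb : SL →* G} (M : LinModel G emb) (hp2 : Odd p)
    {u v : G} (hu : u * u = emb negOne) (hv : v * v = emb negOne) : ∃ g : G, v = g * u * g⁻¹ := by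
  obtain ⟨u₀, rfl, hu₀⟩ := M.root u hu
  obtain ⟨v₀, rfl, hv₀⟩ := M.root v hv
  obtain ⟨h, rfl⟩ := conj_of_sq hp2 hu₀ hv₀
  exact ⟨emb h, by rw [map_mul, map_mul, map_inv]⟩

theorem linModel_SL (hp2 : Odd p) : LinModel SL (MonoidHom.id SL) where
  sq w hw h1 := by
    refine (PSLTwo.Sylow.sq_eq_one (two_ne_zero_zmod hp2) ?_).resolve_left h1
    rw [← pow_two w, ← pow_two, ← pow_mul]; exact hw
  root u hu := ⟨u, rfl, hu⟩
  central g := PSLTwo.Sylow.negOne_central g

theorem linModel_GL (hp2 : Odd p) (hp4 : p % 4 = 3) :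
    LinModel (GL (Fin 2) (ZMod p)) SpecialLinearGroup.toGL := by
  have hns : ¬ IsSquare (-1 : ZMod p) := fun h => ZMod.exists_sq_eq_neg_one_iff.1 h hp4
  have hneg : ((SpecialLinearGroup.toGL (negOne : SL) : GL (Fin 2) (ZMod p)) : M2) = -1 := by
    ext i j; fin_cases i <;> fin_cases j <;> simp [SpecialLinearGroup.toGL]
  have hinj : Function.Injective (SpecialLinearGroup.toGL : SL →* GL (Fin 2) (ZMod p)) :=
    SpecialLinearGroup.toGL_injective
  refine ⟨fun w hw h1 => ?_, fun u hu => ?_, fun g => ?_⟩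
  · have hd : (GeneralLinearGroup.det (w * w) : (ZMod p)ˣ) = 1 := by
      have h : ((GeneralLinearGroup.det (w * w) : (ZMod p)ˣ) : ZMod p) *
          (GeneralLinearGroup.det (w * w) : (ZMod p)ˣ) = 1 := by
        rw [← Units.val_mul, ← map_mul, show w * w * (w * w) = w ^ 4 by rw [← pow_two w, ← pow_two, ← pow_mul], hw, map_one,
          Units.val_one]
      rcases mul_self_eq_one_iff.1 h with h' | h'
      · exact Units.ext h'
      · refine absurd ⟨((GeneralLinearGroup.det w : (ZMod p)ˣ) : ZMod p), ?_⟩ hns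
        rw [← h', map_mul, Units.val_mul]
    obtain ⟨v, hv⟩ : w * w ∈ (SpecialLinearGroup.toGL : SL →* GL (Fin 2) (ZMod p)).range := by
      rw [Linear.range_toGL_eq_ker_det]; exact hd
    rw [← hv] at h1 ⊢
    congr 1
    refine (PSLTwo.Sylow.sq_eq_one (two_ne_zero_zmod hp2) (hinj ?_)).resolve_left
      fun h => h1 (by rw [h, map_one])
    rw [map_mul, hv, map_one, ← pow_two w, ← pow_two, ← pow_mul]; exact hw
  · have hM : (u : M2) * (u : M2) = -1 := by rw [← Units.val_mul, hu, hneg]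
    set δ := Matrix.det (u : M2) with hδ
    have hδ2 : δ * δ = 1 := by
      rw [hδ, ← Matrix.det_mul, hM, Matrix.det_neg, Matrix.det_one, Fintype.card_fin]
      norm_num
    have hδ1 : δ = 1 := by
      rcases mul_self_eq_one_iff.1 hδ2 with h | h
      · exact h
      exfalso
      rw [hδ, Matrix.det_fin_two] at h
      have e00 := congrFun (congrFun hM 0) 0
      have e01 := congrFun (congrFun hM 0) 1
      have e10 := congrFun (congrFun hM 1) 0
      simp [Matrix.mul_apply, Fin.sum_univ_two] at e00 e01 e10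
      by_cases ht : (u : M2) 0 0 + (u : M2) 1 1 = 0
      · refine two_ne_zero_zmod (p := p) hp2 ?_
        linear_combination h + e00 - (u : M2) 0 0 * ht
      · have hb : (u : M2) 0 1 = 0 := by
          refine (mul_eq_zero.1 (?_ : (u : M2) 0 1 * ((u : M2) 0 0 + (u : M2) 1 1) = 0)).resolve_right ht
          linear_combination e01
        refine hns ⟨(u : M2) 0 0, ?_⟩
        linear_combination -e00 + (u : M2) 1 0 * hb
    refine ⟨⟨(u : M2), hδ ▸ hδ1⟩, Units.ext rfl, hinj (Units.ext ?_)⟩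
    show (u : M2) * (u : M2) = _
    rw [hneg]
    exact hM
  · refine Units.ext ?_
    rw [Units.val_mul, Units.val_mul, hneg]
    simp

end

end Cfsg.Agent.Lib.MetacyclicChains
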